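import Cfsg.Agent.Helper55.TransferInv

/-!
Helper55: the Thompson transfer lemma (for homomorphisms of a Sylow 2-subgroup onto `C₂`).

* `odd_card_fixed_cosets` : an element `u` with `u * u = 1` fixes an odd number of cosets of a
  Sylow 2-subgroup.
* `thompson_transfer` : if no `G`-conjugate of `u` lying in `S` is killed by `ϕ : S →* C₂`, then
  the transfer of `ϕ` does not kill `u`.
* `thompson_transfer_conj` : if `G` has no nontrivial homomorphism to `C₂`, then `u` has a
  conjugate in `S` killed by `ϕ` (i.e. lying in the maximal subgroup `ker ϕ`).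
* `hom_eq_one_of_closure_odd_eq_top` : a group generated by elements of odd order has no nontrivial
  homomorphism to `C₂`.
-/

set_option autoImplicit false

namespace Cfsg.Agent.Helper55

open MulAction Subgroup

variable {G : Type*} [Group G] [Finite G]

/-- An element `u` with `u * u = 1` fixes an odd number of cosets of a Sylow 2-subgroup. -/
theorem odd_card_fixed_cosets (S : Sylow 2 G) (u : G) (huu : u * u = 1) :
    Odd (Nat.card {q : G ⧸ (S : Subgroup G) | u • q = q}) := by
  have hZ : IsPGroup 2 (Subgroup.zpowers u) :=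
    IsPGroup.of_card_dvd_pow (n := 1) (by
      rw [Nat.card_zpowers, pow_one]
      exact orderOf_dvd_of_pow_eq_one (by rw [pow_two]; exact huu))
  have h1 := hZ.card_modEq_card_fixedPoints (G ⧸ (S : Subgroup G))
  have h2 : MulAction.fixedPoints (Subgroup.zpowers u) (G ⧸ (S : Subgroup G)) =
      {q : G ⧸ (S : Subgroup G) | u • q = q} := by
    ext q
    constructor
    · intro hq
      exact hq ⟨u, Subgroup.mem_zpowers u⟩
    · intro hq g
      have hle : Subgroup.zpowers u ≤ MulAction.stabilizer G q := by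
        rw [Subgroup.zpowers_le]; exact hq
      exact hle g.2
  rw [h2] at h1
  have h3 : ¬ 2 ∣ Nat.card (G ⧸ (S : Subgroup G)) := S.not_dvd_index
  rw [Nat.odd_iff]
  have h4 : Nat.card (G ⧸ (S : Subgroup G)) % 2 =
      Nat.card {q : G ⧸ (S : Subgroup G) | u • q = q} % 2 := h1
  omega

/-- **Thompson transfer lemma**: if `ϕ : S →* C₂` kills no `G`-conjugate of `u` lying in `S`
(where `u * u = 1`), then the transfer of `ϕ` does not kill `u`. -/
theorem thompson_transfer (S : Sylow 2 G) (ϕ : ↥(S : Subgroup G) →* Multiplicative (ZMod 2))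
    (u : G) (huu : u * u = 1)
    (hconj : ∀ g : G, ∀ h : g⁻¹ * u * g ∈ (S : Subgroup G), ϕ ⟨g⁻¹ * u * g, h⟩ ≠ 1) :
    MonoidHom.transfer ϕ u ≠ 1 := by
  classical
  rw [transfer_involution ϕ u huu]
  have hset : {q : G ⧸ (S : Subgroup G) | extOne ϕ (q.out⁻¹ * u * q.out) ≠ 1} =
      {q : G ⧸ (S : Subgroup G) | u • q = q} := by
    ext q
    rw [Set.mem_ofPred_eq, Set.mem_ofPred_eq, smul_eq_self_iff_out_conj_mem]
    constructor
    · intro h
      by_contra hm
      exact h (extOne_of_not_mem ϕ hm)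
    · intro hm
      rw [extOne_of_mem ϕ hm]
      exact hconj _ hm
  have hodd : Odd (Nat.card {q : G ⧸ (S : Subgroup G) | extOne ϕ (q.out⁻¹ * u * q.out) ≠ 1}) := by
    rw [hset]; exact odd_card_fixed_cosets S u huu
  let _ : Fintype (G ⧸ (S : Subgroup G)) := Fintype.ofFinite _
  rw [finprod_eq_prod_of_fintype]
  have hσ : ∀ a : Multiplicative (ZMod 2), a ≠ 1 → a = Multiplicative.ofAdd 1 := by decide
  have hprod : ∏ q : G ⧸ (S : Subgroup G), extOne ϕ (q.out⁻¹ * u * q.out) =
      (Multiplicative.ofAdd (1 : ZMod 2)) ^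
        (Nat.card {q : G ⧸ (S : Subgroup G) | extOne ϕ (q.out⁻¹ * u * q.out) ≠ 1}) := by
    rw [← Finset.prod_filter_ne_one,
      Finset.prod_congr rfl (fun q hq => hσ _ (Finset.mem_filter.mp hq).2), Finset.prod_const]
    congr 1
    rw [Nat.card_eq_fintype_card, Fintype.card_subtype]
    rfl
  rw [hprod]
  obtain ⟨k, hk⟩ := hodd
  have h2 : (Multiplicative.ofAdd (1 : ZMod 2)) ^ 2 = 1 := by decide
  rw [hk, pow_succ, pow_mul, h2, one_pow, one_mul]
  decide

/-- If `G` has no nontrivial homomorphism to `C₂`, every `u` with `u * u = 1` has a conjugate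
in `S` killed by `ϕ : S →* C₂`. -/
theorem thompson_transfer_conj (hG : ∀ f : G →* Multiplicative (ZMod 2), ∀ g : G, f g = 1)
    (S : Sylow 2 G) (ϕ : ↥(S : Subgroup G) →* Multiplicative (ZMod 2)) (u : G) (huu : u * u = 1) :
    ∃ g : G, ∃ h : g⁻¹ * u * g ∈ (S : Subgroup G), ϕ ⟨g⁻¹ * u * g, h⟩ = 1 := by
  by_contra hcon
  push Not at hcon
  exact thompson_transfer S ϕ u huu hcon (hG _ u)

omit [Finite G] in
/-- A group generated by its elements of odd order has no nontrivial homomorphism to `C₂`. -/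
theorem hom_eq_one_of_closure_odd_eq_top
    (h : Subgroup.closure {g : G | Nat.Coprime (orderOf g) 2} = ⊤)
    (f : G →* Multiplicative (ZMod 2)) (g : G) : f g = 1 := by
  have hle : Subgroup.closure {g : G | Nat.Coprime (orderOf g) 2} ≤ f.ker := by
    rw [Subgroup.closure_le]
    intro x hx
    rw [Set.mem_ofPred_eq] at hx
    rw [SetLike.mem_coe, MonoidHom.mem_ker]
    have h1 : orderOf (f x) ∣ orderOf x := orderOf_map_dvd f x
    have h2 : orderOf (f x) ∣ 2 := orderOf_dvd_of_pow_eq_one (by
      generalize f x = a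
      revert a
      decide)
    have h3 : orderOf (f x) ∣ Nat.gcd (orderOf x) 2 := Nat.dvd_gcd h1 h2
    rw [hx.gcd_eq_one, Nat.dvd_one] at h3
    exact orderOf_eq_one_iff.mp h3
  rw [h] at hle
  exact MonoidHom.mem_ker.1 (hle (Subgroup.mem_top g))

end Cfsg.Agent.Helper55
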