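import Mathlib
import Cfsg.Prelude.Def_Transfer
import Cfsg.Agent.Helper55.ThompsonTransfer
import Cfsg.Agent.Helper55.KleinFusion
import Cfsg.Agent.S0107
import Cfsg.Agent.S0213
import Cfsg.Agent.Helper33.PComplement
import Cfsg.Agent.Helper2.PComplement2

/-!
Helper55: finite groups with a dihedral Sylow 2-subgroup (given by an isomorphism
`e : P ≃* DihedralGroup m`).

* `dihedralPar m h2 b` : the homomorphisms `DihedralGroup m →* C₂` (`m` even) that are nontrivial on
  the rotation `r 1`; kernel = even rotations and the reflections `sr i` with `i ≡ b (mod 2)`.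
* `dRot e j`, `dRef e i` : the elements of `G` corresponding to `r j`, `sr i`.
* `exists_conj_dRot_or_dRef` : every involution of `G` is conjugate to some `dRot e j` or `dRef e i`.
* `npc_of_no_fusion` : if no reflection is `G`-conjugate to a rotation, `G` has a normal
  2-complement (Thompson transfer + Burnside for the cyclic Sylow 2-subgroup of the kernel).
* `transfer_dihedralPar_ne_one` : Thompson transfer for the other two maximal subgroups.
* `conj_in_sylow_of_npc` : with a normal `2`-complement, `G`-conjugate elements of `P` are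
  `P`-conjugate.
* `forall_quot_eq_zpow` : if `N` is normal of `2`-power index and contains a reflection, then `G/N`
  is generated by the image of `dRot e 1`.
-/

set_option autoImplicit false

namespace Cfsg.Agent.Helper55

open DihedralGroup

section DihedralBasic

/-- The homomorphism `DihedralGroup m →* C₂` (`m` even) sending `r i` to the parity of `i` and
`sr i` to the parity of `i` plus `b`. -/
def dihedralPar (m : ℕ) (h2 : 2 ∣ m) (b : ZMod 2) :
    DihedralGroup m →* Multiplicative (ZMod 2) where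
  toFun x := match x with
    | r i => Multiplicative.ofAdd (ZMod.castHom h2 (ZMod 2) i)
    | sr i => Multiplicative.ofAdd (ZMod.castHom h2 (ZMod 2) i + b)
  map_one' := by
    show Multiplicative.ofAdd (ZMod.castHom h2 (ZMod 2) 0) = 1
    rw [map_zero]; rfl
  map_mul' := by
    rintro (i | i) (j | j)
    · show Multiplicative.ofAdd (ZMod.castHom h2 (ZMod 2) (i + j)) =
        Multiplicative.ofAdd (ZMod.castHom h2 (ZMod 2) i) *
          Multiplicative.ofAdd (ZMod.castHom h2 (ZMod 2) j)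
      have e1 : ZMod.castHom h2 (ZMod 2) (i + j) =
          ZMod.castHom h2 (ZMod 2) i + ZMod.castHom h2 (ZMod 2) j := map_add _ _ _
      rw [e1]; rfl
    · show Multiplicative.ofAdd (ZMod.castHom h2 (ZMod 2) (j - i) + b) =
        Multiplicative.ofAdd (ZMod.castHom h2 (ZMod 2) i) *
          Multiplicative.ofAdd (ZMod.castHom h2 (ZMod 2) j + b)
      have e1 : ZMod.castHom h2 (ZMod 2) (j - i) =
          ZMod.castHom h2 (ZMod 2) j - ZMod.castHom h2 (ZMod 2) i := map_sub _ _ _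
      rw [e1]
      generalize ZMod.castHom h2 (ZMod 2) i = x
      generalize ZMod.castHom h2 (ZMod 2) j = y
      revert x y b; decide
    · show Multiplicative.ofAdd (ZMod.castHom h2 (ZMod 2) (i + j) + b) =
        Multiplicative.ofAdd (ZMod.castHom h2 (ZMod 2) i + b) *
          Multiplicative.ofAdd (ZMod.castHom h2 (ZMod 2) j)
      have e1 : ZMod.castHom h2 (ZMod 2) (i + j) =
          ZMod.castHom h2 (ZMod 2) i + ZMod.castHom h2 (ZMod 2) j := map_add _ _ _
      rw [e1]
      generalize ZMod.castHom h2 (ZMod 2) i = x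
      generalize ZMod.castHom h2 (ZMod 2) j = y
      revert x y b; decide
    · show Multiplicative.ofAdd (ZMod.castHom h2 (ZMod 2) (j - i)) =
        Multiplicative.ofAdd (ZMod.castHom h2 (ZMod 2) i + b) *
          Multiplicative.ofAdd (ZMod.castHom h2 (ZMod 2) j + b)
      have e1 : ZMod.castHom h2 (ZMod 2) (j - i) =
          ZMod.castHom h2 (ZMod 2) j - ZMod.castHom h2 (ZMod 2) i := map_sub _ _ _
      rw [e1]
      generalize ZMod.castHom h2 (ZMod 2) i = x
      generalize ZMod.castHom h2 (ZMod 2) j = y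
      revert x y b; decide

lemma dihedralPar_sr (m : ℕ) (h2 : 2 ∣ m) (b : ZMod 2) (i : ZMod m) :
    dihedralPar m h2 b (sr i) = Multiplicative.ofAdd (ZMod.castHom h2 (ZMod 2) i + b) := rfl

lemma dihedralPar_r (m : ℕ) (h2 : 2 ∣ m) (b : ZMod 2) (i : ZMod m) :
    dihedralPar m h2 b (r i) = Multiplicative.ofAdd (ZMod.castHom h2 (ZMod 2) i) := rfl

/-- An element of `ZMod m` (`m` even) of even parity is twice something. -/
lemma exists_two_mul_of_castHom_eq_zero {m : ℕ} (h2 : 2 ∣ m) (d : ZMod m)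
    (hd : ZMod.castHom h2 (ZMod 2) d = 0) : ∃ k : ZMod m, d = 2 * k := by
  have h1 : ((ZMod.cast d : ℤ) : ZMod 2) = 0 := by
    rw [ZMod.castHom_apply] at hd
    rw [ZMod.intCast_cast]
    exact hd
  rw [ZMod.intCast_zmod_eq_zero_iff_dvd] at h1
  obtain ⟨c, hc⟩ := h1
  refine ⟨(c : ZMod m), ?_⟩
  have h3 : d = ((ZMod.cast d : ℤ) : ZMod m) := (ZMod.intCast_zmod_cast d).symm
  rw [h3, hc]
  push_cast
  ring

/-- An element of `ZMod m` (`m` even) of odd parity is twice something plus one. -/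
lemma exists_two_mul_add_one_of_castHom_eq_one {m : ℕ} (h2 : 2 ∣ m) (d : ZMod m)
    (hd : ZMod.castHom h2 (ZMod 2) d = 1) : ∃ k : ZMod m, d = 2 * k + 1 := by
  have h1 : ZMod.castHom h2 (ZMod 2) (d - 1) = 0 := by
    rw [map_sub, hd, map_one, sub_self]
  obtain ⟨k, hk⟩ := exists_two_mul_of_castHom_eq_zero h2 (d - 1) h1
  exact ⟨k, by rw [← hk]; ring⟩

/-- Every element of `ZMod m` (`m` even) is `2 * k` or `2 * k + 1`. -/
lemma exists_two_mul_or {m : ℕ} (h2 : 2 ∣ m) (d : ZMod m) :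
    (∃ k : ZMod m, d = 2 * k) ∨ ∃ k : ZMod m, d = 2 * k + 1 := by
  have h : ∀ x : ZMod 2, x = 0 ∨ x = 1 := by decide
  rcases h (ZMod.castHom h2 (ZMod 2) d) with h0 | h1
  · exact Or.inl (exists_two_mul_of_castHom_eq_zero h2 d h0)
  · exact Or.inr (exists_two_mul_add_one_of_castHom_eq_one h2 d h1)

lemma castHom_two_mul {m : ℕ} (h2 : 2 ∣ m) (k : ZMod m) :
    ZMod.castHom h2 (ZMod 2) (2 * k) = 0 := by
  rw [map_mul]
  have : ZMod.castHom h2 (ZMod 2) 2 = 0 := by
    rw [map_ofNat]; decide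
  rw [this, zero_mul]

/-- Conjugating a reflection by a rotation. -/
lemma r_mul_sr_mul_inv {m : ℕ} (k i : ZMod m) :
    (r k : DihedralGroup m) * sr i * (r k)⁻¹ = sr (i - 2 * k) := by
  rw [inv_r, r_mul_sr, sr_mul_r]
  congr 1
  ring

/-- Conjugating a reflection by a reflection. -/
lemma sr_mul_sr_mul_inv {m : ℕ} (k i : ZMod m) :
    (sr k : DihedralGroup m) * sr i * (sr k)⁻¹ = sr (2 * k - i) := by
  rw [inv_sr, sr_mul_sr, r_mul_sr]
  congr 1
  ring

end DihedralBasic

section InGroup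

variable {G : Type*} [Group G] {m : ℕ} {H : Subgroup G}

/-- The element of `G` corresponding to the rotation `r j` under `e : H ≃* DihedralGroup m`. -/
def dRot (e : ↥H ≃* DihedralGroup m) (j : ZMod m) : G := (e.symm (r j) : G)

/-- The element of `G` corresponding to the reflection `sr i` under `e : H ≃* DihedralGroup m`. -/
def dRef (e : ↥H ≃* DihedralGroup m) (i : ZMod m) : G := (e.symm (sr i) : G)

lemma dRot_mem (e : ↥H ≃* DihedralGroup m) (j : ZMod m) : dRot e j ∈ H := (e.symm (r j)).2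

lemma dRef_mem (e : ↥H ≃* DihedralGroup m) (i : ZMod m) : dRef e i ∈ H := (e.symm (sr i)).2

lemma e_dRot (e : ↥H ≃* DihedralGroup m) (j : ZMod m) (h : dRot e j ∈ H) :
    e ⟨dRot e j, h⟩ = r j := by
  have : (⟨dRot e j, h⟩ : ↥H) = e.symm (r j) := Subtype.ext rfl
  rw [this, MulEquiv.apply_symm_apply]

lemma e_dRef (e : ↥H ≃* DihedralGroup m) (i : ZMod m) (h : dRef e i ∈ H) :
    e ⟨dRef e i, h⟩ = sr i := by
  have : (⟨dRef e i, h⟩ : ↥H) = e.symm (sr i) := Subtype.ext rfl
  rw [this, MulEquiv.apply_symm_apply]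

/-- Every element of `H` is a `dRot` or a `dRef`. -/
lemma mem_cases (e : ↥H ≃* DihedralGroup m) {x : G} (hx : x ∈ H) :
    (∃ j, x = dRot e j) ∨ ∃ i, x = dRef e i := by
  rcases h : e ⟨x, hx⟩ with j | i
  · left
    refine ⟨j, ?_⟩
    have : (⟨x, hx⟩ : ↥H) = e.symm (r j) := by rw [← h, MulEquiv.symm_apply_apply]
    exact congrArg Subtype.val this
  · right
    refine ⟨i, ?_⟩
    have : (⟨x, hx⟩ : ↥H) = e.symm (sr i) := by rw [← h, MulEquiv.symm_apply_apply]
    exact congrArg Subtype.val this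

lemma dRot_mul_dRot (e : ↥H ≃* DihedralGroup m) (i j : ZMod m) :
    dRot e i * dRot e j = dRot e (i + j) := by
  unfold dRot
  rw [← Subgroup.coe_mul, ← map_mul, r_mul_r]

lemma dRef_mul_dRef (e : ↥H ≃* DihedralGroup m) (i j : ZMod m) :
    dRef e i * dRef e j = dRot e (j - i) := by
  unfold dRot dRef
  rw [← Subgroup.coe_mul, ← map_mul, sr_mul_sr]

lemma dRef_mul_dRot (e : ↥H ≃* DihedralGroup m) (i j : ZMod m) :
    dRef e i * dRot e j = dRef e (i + j) := by
  unfold dRot dRef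
  rw [← Subgroup.coe_mul, ← map_mul, sr_mul_r]

lemma dRot_mul_dRef (e : ↥H ≃* DihedralGroup m) (i j : ZMod m) :
    dRot e i * dRef e j = dRef e (j - i) := by
  unfold dRot dRef
  rw [← Subgroup.coe_mul, ← map_mul, r_mul_sr]

lemma dRot_zero (e : ↥H ≃* DihedralGroup m) : dRot e 0 = 1 := by
  unfold dRot
  rw [r_zero, map_one, Subgroup.coe_one]

lemma dRef_mul_self (e : ↥H ≃* DihedralGroup m) (i : ZMod m) : dRef e i * dRef e i = 1 := by
  rw [dRef_mul_dRef, sub_self, dRot_zero]

lemma dRot_inv (e : ↥H ≃* DihedralGroup m) (j : ZMod m) : (dRot e j)⁻¹ = dRot e (-j) := by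
  unfold dRot
  rw [← Subgroup.coe_inv, ← map_inv, inv_r]

lemma dRef_inv (e : ↥H ≃* DihedralGroup m) (i : ZMod m) : (dRef e i)⁻¹ = dRef e i := by
  unfold dRef
  rw [← Subgroup.coe_inv, ← map_inv, inv_sr]

lemma orderOf_dRef (e : ↥H ≃* DihedralGroup m) (i : ZMod m) : orderOf (dRef e i) = 2 := by
  unfold dRef
  rw [Subgroup.orderOf_coe, MulEquiv.orderOf_eq, orderOf_sr]

lemma orderOf_dRot (e : ↥H ≃* DihedralGroup m) (j : ZMod m) :
    orderOf (dRot e j) = orderOf (r j : DihedralGroup m) := by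
  unfold dRot
  rw [Subgroup.orderOf_coe, MulEquiv.orderOf_eq]

lemma dRef_ne_dRot (e : ↥H ≃* DihedralGroup m) (i j : ZMod m) : dRef e i ≠ dRot e j := by
  intro h
  have h1 : e.symm (sr i) = e.symm (r j) := Subtype.ext h
  have h2 := e.symm.injective h1
  exact absurd h2 (by simp)

lemma dRot_injective (e : ↥H ≃* DihedralGroup m) {i j : ZMod m} (h : dRot e i = dRot e j) :
    i = j := by
  have h1 : e.symm (r i) = e.symm (r j) := Subtype.ext h
  have h2 := e.symm.injective h1
  simpa using h2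

lemma dRef_injective (e : ↥H ≃* DihedralGroup m) {i j : ZMod m} (h : dRef e i = dRef e j) :
    i = j := by
  have h1 : e.symm (sr i) = e.symm (sr j) := Subtype.ext h
  have h2 := e.symm.injective h1
  simpa using h2

/-- Conjugating a reflection by a rotation. -/
lemma dRot_conj_dRef (e : ↥H ≃* DihedralGroup m) (k i : ZMod m) :
    dRot e k * dRef e i * (dRot e k)⁻¹ = dRef e (i - 2 * k) := by
  rw [dRot_inv, dRot_mul_dRef, dRef_mul_dRot]
  congr 1
  ring

/-- Conjugating a reflection by a reflection. -/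
lemma dRef_conj_dRef (e : ↥H ≃* DihedralGroup m) (k i : ZMod m) :
    dRef e k * dRef e i * (dRef e k)⁻¹ = dRef e (2 * k - i) := by
  rw [dRef_inv, dRef_mul_dRef, dRot_mul_dRef]
  congr 1
  ring

/-- Two rotations of order two are equal. -/
lemma dRot_unique_of_orderOf (e : ↥H ≃* DihedralGroup m) {i j : ZMod m}
    (hi : orderOf (dRot e i) = 2) (hj : orderOf (dRot e j) = 2) : dRot e i = dRot e j := by
  rw [orderOf_dRot] at hi hj
  have := Cfsg.Agent.S0213.invol_unique (Cfsg.Agent.S0107.r_mem_zpowers m i)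
    (Cfsg.Agent.S0107.r_mem_zpowers m j) hi hj
  unfold dRot
  rw [this]

/-- `dRot e j` is a power of `dRot e 1`. -/
lemma dRot_mem_zpowers (e : ↥H ≃* DihedralGroup m) (j : ZMod m) :
    dRot e j ∈ Subgroup.zpowers (dRot e 1) := by
  obtain ⟨k, hk⟩ := Subgroup.mem_zpowers_iff.1 (Cfsg.Agent.S0107.r_mem_zpowers m j)
  refine Subgroup.mem_zpowers_iff.2 ⟨k, ?_⟩
  unfold dRot
  rw [← Subgroup.coe_zpow, ← map_zpow, hk]

/-- `dRot e (i * k)` is a power of `dRot e i`. -/
lemma dRot_mul_mem_zpowers (e : ↥H ≃* DihedralGroup m) (i k : ZMod m) :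
    dRot e (i * k) ∈ Subgroup.zpowers (dRot e i) := by
  refine Subgroup.mem_zpowers_iff.2 ⟨(ZMod.cast k : ℤ), ?_⟩
  unfold dRot
  rw [← Subgroup.coe_zpow, ← map_zpow, r_zpow, ZMod.intCast_zmod_cast]

end InGroup

section SylowDihedral

variable {G : Type*} [Group G] [Finite G] {m : ℕ}

/-- Every involution of `G` is conjugate to a `dRot` or a `dRef`. -/
lemma exists_conj_dRot_or_dRef (P : Sylow 2 G) (e : ↥(P : Subgroup G) ≃* DihedralGroup m)
    (w : G) (hw : orderOf w = 2) :
    ∃ g : G, (∃ j, g * w * g⁻¹ = dRot e j) ∨ ∃ i, g * w * g⁻¹ = dRef e i := by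
  have : Fact (Nat.Prime 2) := ⟨Nat.prime_two⟩
  obtain ⟨g, hg⟩ := exists_conj_mem_sylow_of_orderOf P w hw
  exact ⟨g, mem_cases e hg⟩

/-- Every involution of `G` is conjugate to a rotation, to `dRef e 0` or to `dRef e 1`. -/
lemma exists_conj_three (P : Sylow 2 G) (e : ↥(P : Subgroup G) ≃* DihedralGroup m) (h2 : 2 ∣ m)
    (w : G) (hw : orderOf w = 2) :
    (∃ g j, g * w * g⁻¹ = dRot e j) ∨ (∃ g, g * w * g⁻¹ = dRef e 0) ∨
      ∃ g, g * w * g⁻¹ = dRef e 1 := by
  obtain ⟨g, ⟨j, hj⟩ | ⟨i, hi⟩⟩ := exists_conj_dRot_or_dRef P e w hw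
  · exact Or.inl ⟨g, j, hj⟩
  · rcases exists_two_mul_or h2 i with ⟨k, rfl⟩ | ⟨k, rfl⟩
    · right; left
      refine ⟨dRot e k * g, ?_⟩
      have h1 := dRot_conj_dRef e k (2 * k)
      rw [sub_self] at h1
      rw [← h1, ← hi]
      group
    · right; right
      refine ⟨dRot e k * g, ?_⟩
      have h1 := dRot_conj_dRef e k (2 * k + 1)
      rw [add_sub_cancel_left] at h1
      rw [← h1, ← hi]
      group

omit [Finite G] in
lemma hom_c2_eq_one_of_odd (f : G →* Multiplicative (ZMod 2)) (g : G)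
    (h : (orderOf g).Coprime 2) : f g = 1 := by
  have h1 : orderOf (f g) ∣ orderOf g := orderOf_map_dvd f g
  have h2 : orderOf (f g) ∣ 2 := orderOf_dvd_of_pow_eq_one (by
    generalize f g = a
    revert a
    decide)
  have h3 : orderOf (f g) ∣ Nat.gcd (orderOf g) 2 := Nat.dvd_gcd h1 h2
  rw [h.gcd_eq_one, Nat.dvd_one] at h3
  exact orderOf_eq_one_iff.mp h3

lemma c2_ofAdd_one_ne_one : (Multiplicative.ofAdd 1 : Multiplicative (ZMod 2)) ≠ 1 := by decide

lemma c2_ofAdd_one_mul_self :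
    (Multiplicative.ofAdd 1 : Multiplicative (ZMod 2)) * Multiplicative.ofAdd 1 = 1 := by decide

lemma c2_eq_of_ne_one (a : Multiplicative (ZMod 2)) (ha : a ≠ 1) :
    a = Multiplicative.ofAdd 1 := by
  revert a; decide

omit [Finite G] in
/-- A homomorphism onto `C₂` has a kernel of index two. -/
lemma exists_normal_index_two_of_hom (f : G →* Multiplicative (ZMod 2)) (g : G) (hg : f g ≠ 1) :
    ∃ N : Subgroup G, N.Normal ∧ N.index = 2 := by
  refine ⟨f.ker, MonoidHom.normal_ker f, ?_⟩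
  rw [Subgroup.index_ker]
  have h1 : f.range = ⊤ := by
    have : Fact (Nat.Prime (Nat.card (Multiplicative (ZMod 2)))) := by
      have : Nat.card (Multiplicative (ZMod 2)) = 2 := by
        rw [Nat.card_eq_fintype_card]; rfl
      rw [this]; exact ⟨Nat.prime_two⟩
    rcases Subgroup.eq_bot_or_eq_top_of_prime_card f.range with h | h
    · exfalso
      apply hg
      have : f g ∈ f.range := ⟨g, rfl⟩
      rw [h] at this
      exact Subgroup.mem_bot.1 this
    · exact h
  rw [h1, Subgroup.card_top, Nat.card_eq_fintype_card]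
  rfl

/-- Thompson transfer for the cyclic maximal subgroup: a reflection not conjugate to a rotation
is not killed by the transfer of `dihedralSign`. -/
lemma transfer_dihedralSign_ne_one (P : Sylow 2 G) (e : ↥(P : Subgroup G) ≃* DihedralGroup m)
    (i : ZMod m) (hno : ∀ (g : G) (j : ZMod m), g * dRef e i * g⁻¹ ≠ dRot e j) :
    MonoidHom.transfer ((Cfsg.Agent.S0107.dihedralSign m).comp e.toMonoidHom) (dRef e i) ≠ 1 := by
  apply thompson_transfer P _ (dRef e i) (dRef_mul_self e i)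
  intro g h
  rcases mem_cases e h with ⟨j, hj⟩ | ⟨k, hk⟩
  · exfalso
    apply hno g⁻¹ j
    rw [inv_inv]; exact hj
  · have e1 : (⟨g⁻¹ * dRef e i * g, h⟩ : ↥(P : Subgroup G)) = ⟨dRef e k, dRef_mem e k⟩ :=
      Subtype.ext hk
    rw [e1]
    show Cfsg.Agent.S0107.dihedralSign m (e ⟨dRef e k, dRef_mem e k⟩) ≠ 1
    rw [e_dRef]
    show (Multiplicative.ofAdd 1 : Multiplicative (ZMod 2)) ≠ 1
    decide

/-- Thompson transfer for the two non-cyclic maximal subgroups. -/
lemma transfer_dihedralPar_ne_one (P : Sylow 2 G) (e : ↥(P : Subgroup G) ≃* DihedralGroup m)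
    (h2 : 2 ∣ m) (b : ZMod 2) (i : ZMod m)
    (hno : ∀ (g : G) (j : ZMod m), g * dRef e i * g⁻¹ ≠ dRot e j)
    (hpar : ∀ (g : G) (k : ZMod m), g * dRef e i * g⁻¹ = dRef e k →
      ZMod.castHom h2 (ZMod 2) k + b = 1) :
    MonoidHom.transfer ((dihedralPar m h2 b).comp e.toMonoidHom) (dRef e i) ≠ 1 := by
  apply thompson_transfer P _ (dRef e i) (dRef_mul_self e i)
  intro g h
  rcases mem_cases e h with ⟨j, hj⟩ | ⟨k, hk⟩
  · exfalso
    apply hno g⁻¹ j
    rw [inv_inv]; exact hj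
  · have e1 : (⟨g⁻¹ * dRef e i * g, h⟩ : ↥(P : Subgroup G)) = ⟨dRef e k, dRef_mem e k⟩ :=
      Subtype.ext hk
    rw [e1]
    show dihedralPar m h2 b (e ⟨dRef e k, dRef_mem e k⟩) ≠ 1
    rw [e_dRef, dihedralPar_sr, hpar g⁻¹ k (by rw [inv_inv]; exact hk)]
    decide

/-- If no reflection of the dihedral Sylow `2`-subgroup is `G`-conjugate to a rotation, then `G`
has a normal `2`-complement. -/
theorem npc_of_no_fusion (P : Sylow 2 G) (e : ↥(P : Subgroup G) ≃* DihedralGroup m)
    (hno : ∀ (i : ZMod m) (g : G) (j : ZMod m), g * dRef e i * g⁻¹ ≠ dRot e j) :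
    Cfsg.HasNormalPComplement 2 G := by
  have : Fact (Nat.Prime 2) := ⟨Nat.prime_two⟩
  set τ := MonoidHom.transfer ((Cfsg.Agent.S0107.dihedralSign m).comp e.toMonoidHom) with hτ
  have hτ1 : ∀ i, τ (dRef e i) = Multiplicative.ofAdd 1 := fun i =>
    c2_eq_of_ne_one _ (transfer_dihedralSign_ne_one P e i (hno i))
  set N := τ.ker with hN
  have hNn : N.Normal := MonoidHom.normal_ker τ
  have hodd : ∀ g : G, (orderOf g).Coprime 2 → g ∈ N := fun g hg =>
    MonoidHom.mem_ker.2 (hom_c2_eq_one_of_odd τ g hg)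
  have hPN : ∀ x ∈ (P : Subgroup G), x ∈ N → x ∈ Subgroup.zpowers (dRot e 1) := by
    intro x hx hxN
    rcases mem_cases e hx with ⟨j, rfl⟩ | ⟨i, rfl⟩
    · exact dRot_mem_zpowers e j
    · exfalso
      rw [hN, MonoidHom.mem_ker, hτ1] at hxN
      exact c2_ofAdd_one_ne_one hxN
  by_cases h2N : 2 ∣ Nat.card N
  swap
  · exact Cfsg.Agent.Helper33.hasNormalPComplement_of_normal N
      ((Nat.Prime.coprime_iff_not_dvd Nat.prime_two).2 h2N).symm hodd
  obtain ⟨Q⟩ : Nonempty (Sylow 2 ↥N) := inferInstance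
  have hQc : IsCyclic ↥(Q : Subgroup ↥N) := by
    have hQ' : IsPGroup 2 ((Q : Subgroup ↥N).map N.subtype) := Q.isPGroup'.map N.subtype
    obtain ⟨R, hR⟩ := hQ'.exists_le_sylow
    obtain ⟨g, hg⟩ := MulAction.exists_smul_eq G R P
    have hconj : ∀ y : ↥N, y ∈ (Q : Subgroup ↥N) →
        g * (y : G) * g⁻¹ ∈ Subgroup.zpowers (dRot e 1) := by
      intro y hy
      apply hPN
      · rw [← hg, Sylow.coe_subgroup_smul]
        have := Subgroup.smul_mem_pointwise_smul _ (MulAut.conj g) _ (hR ⟨y, hy, rfl⟩)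
        simpa [MulAut.smul_def] using this
      · exact hNn.conj_mem _ y.2 g
    let f : ↥(Q : Subgroup ↥N) →* ↥(Subgroup.zpowers (dRot e 1)) :=
      { toFun := fun y => ⟨g * ((y : ↥N) : G) * g⁻¹, hconj y.1 y.2⟩
        map_one' := by
          apply Subtype.ext
          simp
        map_mul' := by
          intro x y
          apply Subtype.ext
          simp [mul_assoc] }
    have hf : Function.Injective f := by
      intro x y hxy
      have h1 : g * ((x : ↥N) : G) * g⁻¹ = g * ((y : ↥N) : G) * g⁻¹ := congrArg Subtype.val hxy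
      have h2 : ((x : ↥N) : G) = ((y : ↥N) : G) := mul_left_cancel (mul_right_cancel h1)
      exact Subtype.ext (Subtype.ext h2)
    exact isCyclic_of_injective f hf
  have hmin : (Nat.card ↥N).minFac = 2 := (Nat.minFac_eq_two_iff _).2 h2N
  have hcompl := IsCyclic.isComplement' hmin hQc
  set K0 := (MonoidHom.transferSylow Q (hQc.normalizer_le_centralizer hmin)).ker with hK0
  have hK0n : K0.Normal := MonoidHom.normal_ker _
  have hK0card : ¬ 2 ∣ Nat.card K0 := MonoidHom.not_dvd_card_ker_transferSylow Q _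
  obtain ⟨k, hk⟩ : ∃ k, K0.index = 2 ^ k := by
    obtain ⟨k, hk⟩ := IsPGroup.iff_card.mp Q.isPGroup'
    exact ⟨k, by rw [hcompl.symm.index_eq_card, hk]⟩
  set K := K0.map N.subtype with hK
  have hKcard : Nat.card K = Nat.card K0 :=
    Subgroup.card_map_of_injective N.subtype_injective
  have hKcop : (Nat.card K).Coprime 2 := by
    rw [hKcard]
    exact ((Nat.Prime.coprime_iff_not_dvd Nat.prime_two).2 hK0card).symm
  have hKodd : ∀ g : G, (orderOf g).Coprime 2 → g ∈ K := by
    intro g hg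
    have hgN := hodd g hg
    have h1 : (⟨g, hgN⟩ : ↥N) ∈ K0 :=
      Cfsg.Agent.Helper33.mem_of_coprime_order_of_index K0 hk
        (by rw [Subgroup.orderOf_mk]; exact hg)
    exact ⟨⟨g, hgN⟩, h1, rfl⟩
  have hKn : K.Normal := by
    constructor
    intro x hx g
    apply hKodd
    have h1 : orderOf (g * x * g⁻¹) = orderOf x :=
      MulEquiv.orderOf_eq (MulAut.conj g) x
    rw [h1]
    exact Nat.Coprime.coprime_dvd_left (Subgroup.orderOf_dvd_natCard K hx) hKcop
  exact Cfsg.Agent.Helper33.hasNormalPComplement_of_normal K hKcop hKodd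

/-- With a normal `2`-complement, `G`-conjugate elements of a Sylow `2`-subgroup are conjugate
inside it. -/
lemma conj_in_sylow_of_npc (h : Cfsg.HasNormalPComplement 2 G) (P : Sylow 2 G) {x y : G}
    (hx : x ∈ (P : Subgroup G)) (hy : y ∈ (P : Subgroup G)) (g : G) (hg : g * x * g⁻¹ = y) :
    ∃ c ∈ (P : Subgroup G), c * x * c⁻¹ = y := by
  have : Fact (Nat.Prime 2) := ⟨Nat.prime_two⟩
  obtain ⟨N, hN, hc⟩ := Cfsg.Agent.Helper2.exists_normal_complement_of_hasNormalPComplement h P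
  obtain ⟨⟨⟨n, hn⟩, ⟨c, hcP⟩⟩, hnc⟩ := (hc.existsUnique g).exists
  have hnc' : n * c = g := hnc
  refine ⟨c, hcP, ?_⟩
  have hy' : c * x * c⁻¹ ∈ (P : Subgroup G) := mul_mem (mul_mem hcP hx) (inv_mem hcP)
  have h1 : y * (c * x * c⁻¹)⁻¹ ∈ N := by
    have e1 : y * (c * x * c⁻¹)⁻¹ = n * ((c * x * c⁻¹) * n⁻¹ * (c * x * c⁻¹)⁻¹) := by
      rw [← hg, ← hnc']; group
    rw [e1]
    exact N.mul_mem hn (hN.conj_mem _ (N.inv_mem hn) _)
  have h2 : y * (c * x * c⁻¹)⁻¹ ∈ (P : Subgroup G) := mul_mem hy (inv_mem hy')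
  have h3 := Subgroup.disjoint_def.1 hc.disjoint h1 h2
  exact (mul_inv_eq_one.1 h3).symm

/-- If `N` is normal of `2`-power index and contains a reflection, every element of `G` lies in
a coset `dRot e j * N`. -/
lemma exists_dRot_inv_mul_mem (P : Sylow 2 G) (e : ↥(P : Subgroup G) ≃* DihedralGroup m)
    (N : Subgroup G) [N.Normal] (k : ℕ) (hN : N.index = 2 ^ k) (i0 : ZMod m)
    (hs : dRef e i0 ∈ N) (g : G) : ∃ j : ZMod m, (dRot e j)⁻¹ * g ∈ N := by
  have : Fact (Nat.Prime 2) := ⟨Nat.prime_two⟩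
  have h1 : ((P : Subgroup G).map (QuotientGroup.mk' N)).index ∣ (P : Subgroup G).index :=
    Subgroup.index_map_dvd _ (QuotientGroup.mk'_surjective N)
  have h2 : ((P : Subgroup G).map (QuotientGroup.mk' N)).index ∣ 2 ^ k := by
    rw [← hN, Subgroup.index_eq_card N]
    exact Subgroup.index_dvd_card _
  obtain ⟨j, -, hj⟩ := (Nat.dvd_prime_pow Nat.prime_two).1 h2
  have hj0 : j = 0 := by
    by_contra hj0
    apply P.not_dvd_index
    refine dvd_trans ?_ h1
    rw [hj]
    exact dvd_pow_self 2 hj0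
  rw [hj0, pow_zero, Subgroup.index_eq_one] at hj
  have h3 : QuotientGroup.mk' N g ∈ (P : Subgroup G).map (QuotientGroup.mk' N) := by
    rw [hj]; trivial
  obtain ⟨x, hx, hxg⟩ := h3
  have h4 : x⁻¹ * g ∈ N := QuotientGroup.eq.1 hxg
  rcases mem_cases e hx with ⟨j, rfl⟩ | ⟨i, rfl⟩
  · exact ⟨j, h4⟩
  · refine ⟨i - i0, ?_⟩
    have e1 : dRef e i = dRef e i0 * dRot e (i - i0) := by
      rw [dRef_mul_dRot]; congr 1; ring
    have e2 : (dRot e (i - i0))⁻¹ * g =
        (dRot e (i - i0))⁻¹ * dRef e i0 * (dRot e (i - i0))⁻¹⁻¹ * ((dRef e i)⁻¹ * g) := by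
      rw [e1]; group
    rw [e2]
    exact N.mul_mem (‹N.Normal›.conj_mem _ hs _) h4

/-- A normal subgroup of `2`-power index containing a reflection and `dRot e 1` is everything. -/
lemma eq_top_of_dRef_mem_of_dRot_one_mem (P : Sylow 2 G)
    (e : ↥(P : Subgroup G) ≃* DihedralGroup m) (N : Subgroup G) [N.Normal] (k : ℕ)
    (hN : N.index = 2 ^ k) (i0 : ZMod m) (hs : dRef e i0 ∈ N) (ha : dRot e 1 ∈ N) : N = ⊤ := by
  rw [eq_top_iff]
  intro g _
  obtain ⟨j, hj⟩ := exists_dRot_inv_mul_mem P e N k hN i0 hs g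
  have h1 : dRot e j ∈ N := (Subgroup.zpowers_le.2 ha) (dRot_mem_zpowers e j)
  have e1 : g = dRot e j * ((dRot e j)⁻¹ * g) := by group
  rw [e1]
  exact N.mul_mem h1 hj

/-- A normal subgroup of `2`-power index containing a reflection and `dRot e 2` has index at
most two. -/
lemma index_le_two_of_dRef_mem_of_dRot_two_mem (P : Sylow 2 G)
    (e : ↥(P : Subgroup G) ≃* DihedralGroup m) (h2 : 2 ∣ m) (N : Subgroup G) [N.Normal] (k : ℕ)
    (hN : N.index = 2 ^ k) (i0 : ZMod m) (hs : dRef e i0 ∈ N) (ha : dRot e 2 ∈ N) :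
    N.index ≤ 2 := by
  rw [Subgroup.index_eq_card]
  let f : Bool → G ⧸ N := fun b => if b then (QuotientGroup.mk' N (dRot e 1)) else 1
  have hf : Function.Surjective f := by
    intro q
    obtain ⟨g, rfl⟩ := QuotientGroup.mk'_surjective N q
    obtain ⟨j, hj⟩ := exists_dRot_inv_mul_mem P e N k hN i0 hs g
    have hev : ∀ c : ZMod m, dRot e (2 * c) ∈ N := fun c =>
      (Subgroup.zpowers_le.2 ha) (dRot_mul_mem_zpowers e 2 c)
    rcases exists_two_mul_or h2 j with ⟨c, rfl⟩ | ⟨c, rfl⟩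
    · refine ⟨false, ?_⟩
      show (1 : G ⧸ N) = QuotientGroup.mk' N g
      symm
      rw [QuotientGroup.mk'_apply, QuotientGroup.eq_one_iff]
      have e1 : g = dRot e (2 * c) * ((dRot e (2 * c))⁻¹ * g) := by group
      rw [e1]
      exact N.mul_mem (hev c) hj
    · refine ⟨true, ?_⟩
      show QuotientGroup.mk' N (dRot e 1) = QuotientGroup.mk' N g
      rw [QuotientGroup.mk'_apply, QuotientGroup.mk'_apply, QuotientGroup.eq]
      have e1 : (dRot e 1)⁻¹ * g =
          (dRot e 1)⁻¹ * dRot e (2 * c + 1) * ((dRot e (2 * c + 1))⁻¹ * g) := by group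
      rw [e1]
      refine N.mul_mem ?_ hj
      have e2 : (dRot e 1)⁻¹ * dRot e (2 * c + 1) = dRot e (2 * c) := by
        rw [dRot_inv, dRot_mul_dRot]; congr 1; ring
      rw [e2]
      exact hev c
  have h3 := Nat.card_le_card_of_surjective f hf
  have h4 : Nat.card Bool = 2 := by
    rw [Nat.card_eq_fintype_card, Fintype.card_bool]
  rwa [h4] at h3

end SylowDihedral

end Cfsg.Agent.Helper55
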