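import Mathlib

/-!
# helper55: auxiliary lemmas for the character pieces of CALL S0984 (pure Mathlib)
-/

set_option autoImplicit false
set_option linter.style.haveILetI false

universe u

namespace Cfsg.Agent.Helper55

theorem a7chp_sum33 (F : ℕ → ℕ → ℂ) :
    ∑ i ∈ Finset.range 3, ∑ j ∈ Finset.range 3, F i j =
      F 0 0 + F 0 1 + F 0 2 + (F 1 0 + F 1 1 + F 1 2) + (F 2 0 + F 2 1 + F 2 2) := by
  simp [Finset.sum_range_succ]

/-- a primitive cube root of unity -/
theorem a7chp_omega : ∃ ω : ℂ, ω ^ 2 + ω + 1 = 0 ∧ ω ^ 3 = 1 := by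
  obtain ⟨s, hs⟩ := IsAlgClosed.exists_pow_nat_eq (-3 : ℂ) (n := 2) two_pos
  refine ⟨(-1 + s) / 2, ?_, ?_⟩
  · linear_combination (1 / 4 : ℂ) * hs
  · linear_combination ((-1 + s) / 2 - 1) * (1 / 4 : ℂ) * hs

/-- the elements `x ^ i * x2 ^ j`, `i, j < 3`, are distinct and fill up `P` -/
theorem a7chp_enum {G : Type u} [Group G] [Finite G] (P : Sylow 3 G) (x x2 : G)
    (hP9 : Nat.card (P : Subgroup G) = 9) (hxP : x ∈ (P : Subgroup G)) (hx : orderOf x = 3)
    (hx2P : x2 ∈ (P : Subgroup G)) (hx2 : x2 ∉ Subgroup.zpowers x) (hx23 : x2 ^ 3 = 1)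
    (f : G → ℂ) :
    ∑ᶠ g ∈ ((P : Subgroup G) : Set G), f g =
      ∑ i ∈ Finset.range 3, ∑ j ∈ Finset.range 3, f (x ^ i * x2 ^ j) := by
  classical
  have key1 : ∀ n : ℕ, x2 ^ n ∈ Subgroup.zpowers x → 3 ∣ n := by
    intro n hn
    have h3 : orderOf x2 = 3 := by
      have hd : orderOf x2 ∣ 3 := orderOf_dvd_of_pow_eq_one hx23
      rcases (Nat.dvd_prime (by norm_num : Nat.Prime 3)).mp hd with h1 | h1
      · exfalso
        apply hx2
        rw [orderOf_eq_one_iff.mp h1]
        exact one_mem _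
      · exact h1
    rw [← pow_mod_orderOf, h3] at hn
    have hlt : n % 3 < 3 := Nat.mod_lt _ (by norm_num)
    by_contra hdvd
    have hcases : n % 3 = 1 ∨ n % 3 = 2 := by omega
    rcases hcases with h1 | h1
    · rw [h1, pow_one] at hn
      exact hx2 hn
    · rw [h1] at hn
      have h4 : (x2 ^ 2) ^ 2 = x2 := by
        rw [← pow_mul, show 2 * 2 = 3 + 1 from rfl, pow_add, hx23, one_mul, pow_one]
      apply hx2
      rw [← h4]
      exact Subgroup.pow_mem _ hn 2
  have hinj : Set.InjOn (fun p : ℕ × ℕ => x ^ p.1 * x2 ^ p.2)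
      ((Finset.range 3 ×ˢ Finset.range 3 : Finset (ℕ × ℕ)) : Set (ℕ × ℕ)) := by
    rintro ⟨i, j⟩ hp ⟨i', j'⟩ hp' heq
    simp only [Finset.coe_product, Set.mem_prod, Finset.mem_coe, Finset.mem_range] at hp hp'
    have heq' : x ^ i * x2 ^ j = x ^ i' * x2 ^ j' := heq
    have haux : ∀ a b a' b' : ℕ, b ≤ b' → b' < 3 →
        x ^ a * x2 ^ b = x ^ a' * x2 ^ b' → b = b' := by
      intro a b a' b' hle hlt he
      have h2 : x2 ^ b' = x2 ^ (b' - b) * x2 ^ b := by
        rw [← pow_add, Nat.sub_add_cancel hle]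
      rw [h2, ← mul_assoc] at he
      have h3 : x ^ a = x ^ a' * x2 ^ (b' - b) := mul_right_cancel he
      have h1 : x2 ^ (b' - b) = (x ^ a')⁻¹ * x ^ a := by
        rw [h3, inv_mul_cancel_left]
      have h4 : x2 ^ (b' - b) ∈ Subgroup.zpowers x := by
        rw [h1]
        exact mul_mem (inv_mem (Subgroup.pow_mem _ (Subgroup.mem_zpowers x) _))
          (Subgroup.pow_mem _ (Subgroup.mem_zpowers x) _)
      have h5 := key1 _ h4
      omega
    have hj : j = j' := by
      rcases Nat.le_total j j' with hle | hle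
      · exact haux i j i' j' hle hp'.2 heq'
      · exact (haux i' j' i j hle hp.2 heq'.symm).symm
    subst hj
    have hi : x ^ i = x ^ i' := mul_right_cancel heq'
    have hi' : i ≡ i' [MOD 3] := by
      rw [← hx]
      exact pow_eq_pow_iff_modEq.mp hi
    have hii : i = i' := by
      unfold Nat.ModEq at hi'
      omega
    rw [hii]
  obtain ⟨S, hS⟩ : ∃ S : Finset G, S = (Finset.range 3 ×ˢ Finset.range 3).image
      (fun p : ℕ × ℕ => x ^ p.1 * x2 ^ p.2) := ⟨_, rfl⟩
  have hSP : (S : Set G) = ((P : Subgroup G) : Set G) := by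
    refine Set.eq_of_subset_of_ncard_le ?_ ?_ (Set.toFinite _)
    · intro g hg
      rw [hS] at hg
      simp only [Finset.coe_image, Set.mem_image] at hg
      obtain ⟨p, -, rfl⟩ := hg
      exact mul_mem (pow_mem hxP _) (pow_mem hx2P _)
    · rw [Set.ncard_coe_finset, hS, Finset.card_image_of_injOn hinj, Finset.card_product,
        Finset.card_range, ← Nat.card_coe_set_eq]
      exact le_of_eq hP9
  rw [← hSP, finsum_mem_coe_finset, hS, Finset.sum_image hinj, Finset.sum_product]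

theorem a7aux_sum322 (F : ℕ → ℕ → ℕ → ℂ) :
    ∑ i ∈ Finset.range 3, ∑ j ∈ Finset.range 2, ∑ l ∈ Finset.range 2, F i j l =
      (F 0 0 0 + F 0 0 1 + (F 0 1 0 + F 0 1 1)) + (F 1 0 0 + F 1 0 1 + (F 1 1 0 + F 1 1 1)) +
        (F 2 0 0 + F 2 0 1 + (F 2 1 0 + F 2 1 1)) := by
  simp [Finset.sum_range_succ]

/-- a subgroup of order four is the set of any four distinct elements of it -/
theorem a7aux_four {G : Type u} [Group G] [Finite G] (K : Subgroup G) (hK4 : Nat.card K = 4)
    (a b c d : G) (ha : a ∈ K) (hb : b ∈ K) (hc : c ∈ K) (hd : d ∈ K)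
    (hab : a ≠ b) (hac : a ≠ c) (had : a ≠ d) (hbc : b ≠ c) (hbd : b ≠ d) (hcd : c ≠ d) :
    ∀ κ ∈ K, κ = a ∨ κ = b ∨ κ = c ∨ κ = d := by
  classical
  have hsub : (({a, b, c, d} : Finset G) : Set G) ⊆ (K : Set G) := by
    intro g hg
    simp only [Finset.coe_insert, Finset.coe_singleton, Set.mem_insert_iff,
      Set.mem_singleton_iff] at hg
    rcases hg with rfl | rfl | rfl | rfl <;> assumption
  have hcard : ({a, b, c, d} : Finset G).card = 4 := by
    rw [Finset.card_insert_of_notMem, Finset.card_insert_of_notMem,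
      Finset.card_insert_of_notMem, Finset.card_singleton]
    · simpa using hcd
    · simp [hbc, hbd]
    · simp [hab, hac, had]
  have heq := Set.eq_of_subset_of_ncard_le hsub
    (by rw [Set.ncard_coe_finset, hcard, ← Nat.card_coe_set_eq]; exact le_of_eq hK4)
    (Set.toFinite _)
  intro κ hκ
  have h1 : κ ∈ (({a, b, c, d} : Finset G) : Set G) := by
    rw [heq]
    exact hκ
  simpa using h1

end Cfsg.Agent.Helper55
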