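import Mathlib
import Cfsg.Prelude.Def_CaseTheorems
import Cfsg.Prelude.Def_OddOrderLocal
import Cfsg.Agent.S0100
import Cfsg.Agent.S0126
import Cfsg.Agent.S3771
import Cfsg.Agent.S4143
import Cfsg.Agent.Helper22.Rank2Cprod
import Cfsg.Agent.Helper35.HallCoprime
import Cfsg.Agent.Helper49.OddCyclic
import Cfsg.Agent.Helper21.PRank

set_option autoImplicit false

/-! Piece I of CALL S3888 (Blackburn, p-groups of rank ≤ 2): a `p`-group of rank at most 2
(`p` odd) having a subgroup of exponent `p` and order greater than `p ^ 2` is of maximal class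
or has a normal subgroup of order `p ^ 3` and exponent `p`. -/

namespace Cfsg.Agent.Helper55

open Subgroup

section BkI

variable {G : Type*} [Group G] [Finite G] {p : ℕ} [Fact p.Prime]

/-- Order of the full preimage of a subgroup of a quotient. -/
theorem bkI_card_comap (Z : Subgroup G) [Z.Normal] (A : Subgroup (G ⧸ Z)) :
    Nat.card (A.comap (QuotientGroup.mk' Z)) = Nat.card A * Nat.card Z := by
  have h1 : (A.comap (QuotientGroup.mk' Z)).index = A.index :=
    Subgroup.index_comap_of_surjective A (QuotientGroup.mk'_surjective Z)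
  have h2 := Subgroup.card_mul_index (A.comap (QuotientGroup.mk' Z))
  have h3 := Subgroup.card_mul_index A
  have h4 : Nat.card G = Nat.card (G ⧸ Z) * Nat.card Z :=
    Subgroup.card_eq_card_quotient_mul_card_subgroup Z
  have h5 : 0 < A.index := Nat.pos_of_ne_zero Subgroup.index_ne_zero_of_finite
  rw [h1] at h2
  have h6 : Nat.card (A.comap (QuotientGroup.mk' Z)) * A.index
      = Nat.card A * Nat.card Z * A.index := by
    rw [h2, h4, ← h3]; ring
  exact Nat.eq_of_mul_eq_mul_right h5 h6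

/-- The last step: from a normal elementary abelian subgroup of order `p ^ 3` of `G / Z`
(`Z` central of order `p`) to a normal subgroup of order `p ^ 3` and exponent `p` of `G`. -/
theorem bkI_final (hp : p ≠ 2) (hP : IsPGroup p G) (hrk : Cfsg.PRankLE p 2 G)
    (Z : Subgroup G) [Z.Normal] (hZcard : Nat.card Z = p)
    (hZc : ∀ z ∈ Z, ∀ g : G, g * z = z * g)
    (A' : Subgroup (G ⧸ Z)) (hA'n : A'.Normal) (hA'c : IsMulCommutative A')
    (hA'e : ∀ a ∈ A', a ^ p = 1) (hA'card : Nat.card A' = p ^ 3) :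
    ∃ E : Subgroup G, E.Normal ∧ Nat.card E = p ^ 3 ∧ ∀ e ∈ E, e ^ p = 1 := by
  have hpp := (Fact.out : p.Prime)
  obtain ⟨π, hπdef⟩ : ∃ π : G →* G ⧸ Z, π = QuotientGroup.mk' Z := ⟨_, rfl⟩
  have hπker : ∀ g : G, π g = 1 ↔ g ∈ Z := by
    intro g; rw [hπdef]; exact QuotientGroup.eq_one_iff g
  have hAcard : Nat.card (A'.comap π) = p ^ 4 := by
    rw [hπdef, bkI_card_comap, hA'card, hZcard]; ring
  have hAn : (A'.comap π).Normal := hA'n.comap π
  have hZp : ∀ z ∈ Z, z ^ p = 1 := by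
    intro z hz
    have h1 : (⟨z, hz⟩ : Z) ^ Nat.card Z = 1 := pow_card_eq_one'
    rw [hZcard] at h1
    have h2 := congrArg Subtype.val h1
    simp only [Subgroup.coe_pow, Subgroup.coe_one] at h2
    exact h2
  have hcomm : ∀ a ∈ A'.comap π, ∀ b ∈ A'.comap π, b⁻¹ * a⁻¹ * b * a ∈ Z := by
    intro a ha b hb
    rw [← hπker]
    have h1 : π a * π b = π b * π a :=
      congrArg Subtype.val (hA'c.is_comm.comm ⟨π a, ha⟩ ⟨π b, hb⟩)
    rw [map_mul, map_mul, map_mul, map_inv, map_inv]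
    calc (π b)⁻¹ * (π a)⁻¹ * π b * π a = (π a * π b)⁻¹ * (π b * π a) := by group
      _ = 1 := by rw [h1]; exact inv_mul_cancel _
  have hpowZ : ∀ a ∈ A'.comap π, a ^ p ∈ Z := by
    intro a ha
    rw [← hπker, map_pow]
    exact hA'e _ ha
  have hmulpow : ∀ a ∈ A'.comap π, ∀ b ∈ A'.comap π, (a * b) ^ p = a ^ p * b ^ p := by
    intro a ha b hb
    have hc := hcomm a ha b hb
    exact Helper49.mul_pow_prime_of_central hpp hp (c := b⁻¹ * a⁻¹ * b * a) (by group)
      (hZc _ hc a).symm (hZc _ hc b).symm (hZp _ hc)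
  obtain ⟨E, hEdef⟩ : ∃ E : Subgroup G, ∀ a, a ∈ E ↔ a ∈ A'.comap π ∧ a ^ p = 1 :=
    ⟨{ carrier := {a | a ∈ A'.comap π ∧ a ^ p = 1}
       one_mem' := ⟨one_mem _, one_pow p⟩
       mul_mem' := by
         rintro a b ⟨ha, hap⟩ ⟨hb, hbp⟩
         refine ⟨mul_mem ha hb, ?_⟩
         rw [hmulpow a ha b hb, hap, hbp, one_mul]
       inv_mem' := by
         rintro a ⟨ha, hap⟩
         refine ⟨inv_mem ha, ?_⟩
         rw [inv_pow, hap, inv_one] }, fun a => Iff.rfl⟩
  have hEn : E.Normal := by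
    refine ⟨fun a ha g => ?_⟩
    obtain ⟨ha1, ha2⟩ := (hEdef a).1 ha
    rw [hEdef]
    refine ⟨hAn.conj_mem a ha1 g, ?_⟩
    rw [conj_pow, ha2, mul_one, mul_inv_cancel]
  have hEe : ∀ e ∈ E, e ^ p = 1 := fun e he => ((hEdef e).1 he).2
  have hEle : Nat.card E ≤ p ^ 3 := by
    refine Cfsg.Agent.S3771.result (R := E) (hP.to_subgroup E)
      (Helper21.pRankLE_of_injective E.subtype E.subtype_injective hrk) ?_
    intro x
    apply Subtype.ext
    rw [Subgroup.coe_pow, Subgroup.coe_one]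
    exact hEe x.1 x.2
  have hEge : p ^ 3 ≤ Nat.card E := by
    obtain ⟨φ, hφ⟩ : ∃ φ : (A'.comap π) →* Z, ∀ a : A'.comap π, ((φ a : Z) : G) = (a : G) ^ p :=
      ⟨MonoidHom.mk' (fun a => ⟨(a : G) ^ p, hpowZ a.1 a.2⟩) (by
        intro a b
        apply Subtype.ext
        simp only [Subgroup.coe_mul]
        exact hmulpow a.1 a.2 b.1 b.2), fun a => rfl⟩
    have h1 := Subgroup.card_mul_index φ.ker
    rw [Subgroup.index_ker φ, hAcard] at h1
    have h2 : Nat.card φ.range ≤ p := hZcard ▸ Subgroup.card_le_card_group φ.range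
    have h3 : Nat.card φ.ker ≤ Nat.card E := by
      rw [← Subgroup.card_map_of_injective (K := φ.ker) (A'.comap π).subtype_injective]
      apply Subgroup.card_le_of_le
      rintro _ ⟨a, ha, rfl⟩
      rw [hEdef]
      refine ⟨a.2, ?_⟩
      have h4 : φ a = 1 := ha
      have h5 := hφ a
      rw [h4] at h5
      simp only [Subgroup.coe_one] at h5
      exact h5.symm
    have h6 : p ^ 4 ≤ Nat.card E * p := by
      calc p ^ 4 = Nat.card φ.ker * Nat.card φ.range := h1.symm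
        _ ≤ Nat.card E * p := Nat.mul_le_mul h3 h2
    by_contra hlt
    push Not at hlt
    have h7 : Nat.card E * p < p ^ 3 * p := Nat.mul_lt_mul_of_pos_right hlt hpp.pos
    have h8 : p ^ 3 * p = p ^ 4 := by ring
    omega
  exact ⟨E, hEn, le_antisymm hEle hEge, hEe⟩

/-- Steps 1–5: the configuration `Z < N < N⟨x⟩ = B` and an element `d ∉ B` centralizing `B`
with `d ^ p ∈ Z`, unless `G` is of maximal class. -/
theorem bkI_setup (hp : p ≠ 2) (n : ℕ) (hG : Nat.card G = p ^ n) (hrk : Cfsg.PRankLE p 2 G)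
    (S₀ : Subgroup G) (hS₀ : ∀ s ∈ S₀, s ^ p = 1) (hcard : p ^ 2 < Nat.card S₀)
    (hcl : Group.nilpotencyClass G ≠ n - 1) :
    ∃ (Z N : Subgroup G) (x d : G), Z.Normal ∧ N.Normal ∧ Nat.card Z = p ∧
      (∀ z ∈ Z, ∀ g : G, g * z = z * g) ∧ (∀ m ∈ N, ∀ g : G, g * m * g⁻¹ * m⁻¹ ∈ Z) ∧
      (∀ m ∈ N, m ^ p = 1) ∧ x ^ p = 1 ∧ Nat.card (N ⊔ zpowers x : Subgroup G) = p ^ 3 ∧
      d ∉ N ⊔ zpowers x ∧ d * x = x * d ∧ d ^ p ∈ Z := by
  classical
  have hpp := (Fact.out : p.Prime)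
  have hp2 := hpp.two_le
  have hP : IsPGroup p G := IsPGroup.of_card hG
  have hnc : ¬ IsCyclic G := by
    intro hc
    have hGc : IsMulCommutative G := IsCyclic.isMulCommutative
    have hS₀c : IsMulCommutative S₀ :=
      ⟨⟨fun a b => Subtype.ext (hGc.is_comm.comm a.1 b.1)⟩⟩
    have := hrk S₀ hS₀c hS₀
    omega
  obtain ⟨N, hNn, hNea, hNcard⟩ := Cfsg.Agent.S0126.result hp hP hnc
  have := hNn
  obtain ⟨Z, hZn, hZN, hZcard⟩ := Helper22.exists_normal_le_card hP N 2 hNcard 1 (by norm_num)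
  have := hZn
  rw [pow_one] at hZcard
  have hZc : ∀ z ∈ Z, ∀ g : G, g * z = z * g := by
    intro z hz g
    have h := Helper22.r2c_central_mod hP ⊥ Z bot_le
      (by rw [Subgroup.card_bot, mul_one, hZcard]) z hz g
    rw [Subgroup.mem_bot] at h
    exact mul_inv_eq_iff_eq_mul.mp (mul_inv_eq_one.mp h)
  have hNZ : ∀ m ∈ N, ∀ g : G, g * m * g⁻¹ * m⁻¹ ∈ Z :=
    Helper22.r2c_central_mod hP Z N hZN (by rw [hZcard, hNcard, pow_two])
  have hNc : ∀ a ∈ N, ∀ b ∈ N, a * b = b * a := by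
    intro a ha b hb
    exact congrArg Subtype.val (hNea.1.is_comm.comm ⟨a, ha⟩ ⟨b, hb⟩)
  have hNe : ∀ m ∈ N, m ^ p = 1 := hNea.2
  -- the element x
  have hS₀N : ¬ S₀ ≤ N := by
    intro hle
    have := Subgroup.card_le_of_le hle
    omega
  obtain ⟨x, hxS, hxN⟩ := SetLike.not_le_iff_exists.mp hS₀N
  have hxp : x ^ p = 1 := hS₀ x hxS
  have hx1 : x ≠ 1 := fun h => hxN (h ▸ one_mem N)
  have hxo : orderOf x = p := orderOf_eq_prime hxp hx1
  have hxcard : Nat.card (zpowers x) = p := by rw [Nat.card_zpowers, hxo]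
  have hzp : ∀ z ∈ zpowers x, z ^ p = 1 := by
    intro z hz
    obtain ⟨k, rfl⟩ := Subgroup.mem_zpowers_iff.mp hz
    rw [← zpow_natCast, ← zpow_mul, mul_comm, zpow_mul, zpow_natCast, hxp, one_zpow]
  have hzz : ∀ z ∈ zpowers x, ∀ z' ∈ zpowers x, Commute z z' := by
    intro z hz z' hz'
    obtain ⟨k, rfl⟩ := Subgroup.mem_zpowers_iff.mp hz
    obtain ⟨k', rfl⟩ := Subgroup.mem_zpowers_iff.mp hz'
    exact Commute.zpow_zpow_self x k k'
  have hinf : N ⊓ zpowers x = ⊥ := by
    have hdvd : Nat.card (N ⊓ zpowers x : Subgroup G) ∣ p :=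
      hxcard ▸ Subgroup.card_dvd_of_le inf_le_right
    rcases (Nat.dvd_prime hpp).1 hdvd with h1 | h1
    · exact Subgroup.card_eq_one.mp h1
    · exfalso
      have heq : N ⊓ zpowers x = zpowers x :=
        Subgroup.eq_of_le_of_card_ge inf_le_right (by rw [h1, hxcard])
      have hxin : x ∈ N ⊓ zpowers x := by rw [heq]; exact Subgroup.mem_zpowers x
      exact hxN hxin.1
  have hBcard : Nat.card (N ⊔ zpowers x : Subgroup G) = p ^ 3 := by
    rw [Helper35.card_sup_of_le_normalizer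
      (by rw [Subgroup.normalizer_eq_top_iff.mpr inferInstance]; exact le_top) hinf,
      hNcard, hxcard]
    ring
  have hNB : N ≤ N ⊔ zpowers x := le_sup_left
  have hxB : x ∈ N ⊔ zpowers x := (le_sup_right : zpowers x ≤ _) (Subgroup.mem_zpowers x)
  -- x does not centralize N
  have hxnc : ¬ ∀ m ∈ N, x * m = m * x := by
    intro hcen
    have hzN : ∀ z ∈ zpowers x, ∀ m ∈ N, Commute z m := by
      intro z hz m hm
      obtain ⟨k, rfl⟩ := Subgroup.mem_zpowers_iff.mp hz
      exact Commute.zpow_left (hcen m hm) k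
    have hBc : IsMulCommutative (N ⊔ zpowers x : Subgroup G) := by
      refine ⟨⟨fun a b => Subtype.ext ?_⟩⟩
      obtain ⟨y, hy, z, hz, hyz⟩ := Subgroup.mem_sup_of_normal_left.mp a.2
      obtain ⟨y', hy', z', hz', hyz'⟩ := Subgroup.mem_sup_of_normal_left.mp b.2
      rw [Subgroup.coe_mul, Subgroup.coe_mul, ← hyz, ← hyz']
      exact Commute.mul_left
        (Commute.mul_right (hNc y hy y' hy') (hzN z' hz' y hy).symm)
        (Commute.mul_right (hzN z hz y' hy') (hzz z hz z' hz'))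
    have hBe : ∀ a ∈ (N ⊔ zpowers x : Subgroup G), a ^ p = 1 := by
      intro a ha
      obtain ⟨y, hy, z, hz, hyz⟩ := Subgroup.mem_sup_of_normal_left.mp ha
      rw [← hyz, (hzN z hz y hy).symm.mul_pow, hNe y hy, hzp z hz, one_mul]
    have h1 := hrk _ hBc hBe
    rw [hBcard] at h1
    have h2 : p ^ 2 < p ^ 3 := Nat.pow_lt_pow_right hpp.one_lt (by norm_num)
    omega
  have hBna : ¬ IsMulCommutative (N ⊔ zpowers x : Subgroup G) := by
    intro hc
    apply hxnc
    intro m hm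
    exact congrArg Subtype.val (hc.is_comm.comm ⟨x, hxB⟩ ⟨m, hNB hm⟩)
  -- the element d
  have hC : ¬ Subgroup.centralizer ((N ⊔ zpowers x : Subgroup G) : Set G) ≤ N ⊔ zpowers x := by
    intro hC
    exact hcl (Cfsg.Agent.S4143.result n hG _ hBcard hBna hC)
  obtain ⟨d0, hd0C, hd0B⟩ := SetLike.not_le_iff_exists.mp hC
  have hex : ∃ k : ℕ, d0 ^ p ^ k ∈ N ⊔ zpowers x := by
    obtain ⟨k, hk⟩ := hP d0
    exact ⟨k, hk ▸ one_mem _⟩
  have hk0 : Nat.find hex ≠ 0 := by
    intro h0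
    have := Nat.find_spec hex
    rw [h0, pow_zero, pow_one] at this
    exact hd0B this
  obtain ⟨k, hk⟩ : ∃ k, Nat.find hex = k + 1 := ⟨Nat.find hex - 1, by omega⟩
  have hdB : d0 ^ p ^ k ∉ N ⊔ zpowers x := Nat.find_min hex (by omega)
  have hdpB : (d0 ^ p ^ k) ^ p ∈ N ⊔ zpowers x := by
    have := Nat.find_spec hex
    rw [hk, pow_succ, pow_mul] at this
    exact this
  have hdC : d0 ^ p ^ k ∈ Subgroup.centralizer ((N ⊔ zpowers x : Subgroup G) : Set G) :=
    pow_mem hd0C _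
  have hdx : d0 ^ p ^ k * x = x * d0 ^ p ^ k :=
    (Subgroup.mem_centralizer_iff.1 hdC x hxB).symm
  -- d ^ p ∈ Z
  have hdpC : (d0 ^ p ^ k) ^ p ∈ Subgroup.centralizer ((N ⊔ zpowers x : Subgroup G) : Set G) :=
    pow_mem hdC _
  have hdpZ : (d0 ^ p ^ k) ^ p ∈ Z := by
    obtain ⟨u, hu⟩ : ∃ u : G, u = (d0 ^ p ^ k) ^ p := ⟨_, rfl⟩
    rw [← hu] at hdpB hdpC ⊢
    obtain ⟨m, hm, h, hh, hmh⟩ := Subgroup.mem_sup_of_normal_left.mp hdpB
    have hucen : ∀ b ∈ (N ⊔ zpowers x : Subgroup G), b * u = u * b :=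
      fun b hb => Subgroup.mem_centralizer_iff.1 hdpC b hb
    have hhN : ∀ m' ∈ N, m' * h = h * m' := by
      intro m' hm'
      have h1 := hucen m' (hNB hm')
      rw [← hmh] at h1
      have h2 := hNc m' hm' m hm
      have h3 : m * (m' * h) = m * (h * m') := by
        calc m * (m' * h) = m' * (m * h) := by rw [← mul_assoc, ← h2, mul_assoc]
          _ = m * h * m' := h1
          _ = m * (h * m') := mul_assoc _ _ _
      exact mul_left_cancel h3
    have hh1 : h = 1 := by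
      by_contra hne
      have hhp : h ^ p = 1 := hzp h hh
      have hho : orderOf h = p := orderOf_eq_prime hhp hne
      have hle : zpowers h ≤ zpowers x := Subgroup.zpowers_le.mpr hh
      have heq : zpowers h = zpowers x :=
        Subgroup.eq_of_le_of_card_ge hle (by rw [hxcard, Nat.card_zpowers, hho])
      have hxh : x ∈ zpowers h := by rw [heq]; exact Subgroup.mem_zpowers x
      obtain ⟨j, hj⟩ := Subgroup.mem_zpowers_iff.mp hxh
      apply hxnc
      intro m' hm'
      rw [← hj]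
      exact (Commute.zpow_left (show Commute h m' from (hhN m' hm').symm) j)
    rw [hh1, mul_one] at hmh
    rw [← hmh]
    have hmx : m * x = x * m := by
      have := hucen x hxB
      rw [← hmh] at this
      exact this.symm
    -- K = N ⊓ C(x) equals Z
    have hZK : Z ≤ N ⊓ Subgroup.centralizer {x} := by
      intro z hz
      refine Subgroup.mem_inf.mpr ⟨hZN hz, ?_⟩
      rw [Subgroup.mem_centralizer_singleton_iff]
      exact (hZc z hz x).symm
    have hKdvd : Nat.card (N ⊓ Subgroup.centralizer {x} : Subgroup G) ∣ p ^ 2 :=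
      hNcard ▸ Subgroup.card_dvd_of_le inf_le_left
    obtain ⟨j, hj2, hj⟩ := (Nat.dvd_prime_pow hpp).1 hKdvd
    have hKge : p ≤ Nat.card (N ⊓ Subgroup.centralizer {x} : Subgroup G) :=
      hZcard ▸ Subgroup.card_le_of_le hZK
    have hjne2 : j ≠ 2 := by
      intro hj2'
      rw [hj2'] at hj
      have heq : N ⊓ Subgroup.centralizer {x} = N :=
        Subgroup.eq_of_le_of_card_ge inf_le_left (by rw [hj, hNcard])
      apply hxnc
      intro m' hm'
      have hm'' : m' ∈ N ⊓ Subgroup.centralizer {x} := by rw [heq]; exact hm'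
      exact (Subgroup.mem_centralizer_singleton_iff.1 hm''.2).symm
    have hjne0 : j ≠ 0 := by
      intro hj0
      rw [hj0, pow_zero] at hj
      omega
    have hj1 : j = 1 := by omega
    rw [hj1, pow_one] at hj
    have heq : Z = N ⊓ Subgroup.centralizer {x} :=
      Subgroup.eq_of_le_of_card_ge hZK (by rw [hj, hZcard])
    rw [heq]
    exact Subgroup.mem_inf.mpr ⟨hm, Subgroup.mem_centralizer_singleton_iff.2 hmx⟩
  exact ⟨Z, N, x, d0 ^ p ^ k, hZn, hNn, hZcard, hZc, hNZ, hNe, hxp, hBcard, hdB, hdx, hdpZ⟩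

/-- Piece I of CALL S3888. -/
theorem bk_normal_E {G : Type*} [Group G] [Finite G] {p : ℕ} [Fact p.Prime] (hp : p ≠ 2) (n : ℕ)
    (hG : Nat.card G = p ^ n) (hrk : Cfsg.PRankLE p 2 G)
    (S₀ : Subgroup G) (hS₀ : ∀ s ∈ S₀, s ^ p = 1) (hcard : p ^ 2 < Nat.card S₀) :
    Group.nilpotencyClass G = n - 1 ∨
      ∃ E : Subgroup G, E.Normal ∧ Nat.card E = p ^ 3 ∧ ∀ e ∈ E, e ^ p = 1 := by
  by_cases hcl : Group.nilpotencyClass G = n - 1
  · exact Or.inl hcl
  right
  have hpp := (Fact.out : p.Prime)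
  have hP : IsPGroup p G := IsPGroup.of_card hG
  obtain ⟨Z, N, x, d, hZn, hNn, hZcard, hZc, hNZ, hNe, hxp, hBcard, hdB, hdx, hdp⟩ :=
    bkI_setup hp n hG hrk S₀ hS₀ hcard hcl
  have := hZn
  have := hNn
  obtain ⟨π, hπdef⟩ : ∃ π : G →* G ⧸ Z, π = QuotientGroup.mk' Z := ⟨_, rfl⟩
  have hπker : ∀ g : G, π g = 1 ↔ g ∈ Z := by
    intro g; rw [hπdef]; exact QuotientGroup.eq_one_iff g
  have hπsurj : Function.Surjective π := by
    rw [hπdef]; exact QuotientGroup.mk'_surjective Z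
  obtain ⟨T, hTdef⟩ : ∃ T : Set (G ⧸ Z), ∀ g, g ∈ T ↔ (g ∈ N.map π ∨ g = π x ∨ g = π d) :=
    ⟨{g | g ∈ N.map π ∨ g = π x ∨ g = π d}, fun g => Iff.rfl⟩
  have hNcen : ∀ a ∈ N.map π, ∀ b : G ⧸ Z, a * b = b * a := by
    rintro _ ⟨m, hm, rfl⟩ b
    obtain ⟨g, rfl⟩ := hπsurj b
    have h1 := Helper22.r2c_commute_mk Z g m (hNZ m hm g)
    rw [← hπdef] at h1
    exact h1.symm
  have hxd : π x * π d = π d * π x := by
    rw [← map_mul, ← map_mul, hdx]
  have hTcomm : ∀ a ∈ T, ∀ b ∈ T, a * b = b * a := by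
    intro a ha b hb
    rcases (hTdef a).1 ha with ha | ha | ha
    · exact hNcen a ha b
    · rcases (hTdef b).1 hb with hb | hb | hb
      · exact (hNcen b hb a).symm
      · rw [ha, hb]
      · rw [ha, hb]; exact hxd
    · rcases (hTdef b).1 hb with hb | hb | hb
      · exact (hNcen b hb a).symm
      · rw [ha, hb]; exact hxd.symm
      · rw [ha, hb]
  have hEc : IsMulCommutative (closure T) := Subgroup.isMulCommutative_closure hTcomm
  have hEe : ∀ a ∈ closure T, a ^ p = 1 := by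
    intro a ha
    induction ha using Subgroup.closure_induction with
    | mem a ha =>
      rcases (hTdef a).1 ha with ha | ha | ha
      · obtain ⟨m, hm, rfl⟩ := ha
        rw [← map_pow, hNe m hm, map_one]
      · rw [ha, ← map_pow, hxp, map_one]
      · rw [ha, ← map_pow, hπker]; exact hdp
    | one => exact one_pow p
    | mul a b ha hb iha ihb =>
      have hab : Commute a b := congrArg Subtype.val (hEc.is_comm.comm ⟨a, ha⟩ ⟨b, hb⟩)
      rw [hab.mul_pow, iha, ihb, one_mul]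
    | inv a ha iha => rw [inv_pow, iha, inv_one]
  have hEcard : p ^ 2 < Nat.card (closure T) := by
    by_contra hle
    push Not at hle
    have hcm := bkI_card_comap Z (closure T)
    rw [← hπdef, hZcard] at hcm
    have hBle : N ⊔ zpowers x ≤ (closure T).comap π := by
      refine sup_le ?_ (Subgroup.zpowers_le.mpr ?_)
      · intro m hm
        exact subset_closure ((hTdef _).2 (Or.inl ⟨m, hm, rfl⟩))
      · exact subset_closure ((hTdef _).2 (Or.inr (Or.inl rfl)))
    have hdin : d ∈ (closure T).comap π :=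
      subset_closure ((hTdef _).2 (Or.inr (Or.inr rfl)))
    have heq : N ⊔ zpowers x = (closure T).comap π := by
      refine Subgroup.eq_of_le_of_card_ge hBle ?_
      rw [hcm, hBcard]
      calc Nat.card (closure T) * p ≤ p ^ 2 * p := Nat.mul_le_mul_right p hle
        _ = p ^ 3 := by ring
    exact hdB (by rw [heq]; exact hdin)
  by_cases hex : ∃ A' : Subgroup (G ⧸ Z), A'.Normal ∧ IsMulCommutative A' ∧
      (∀ a ∈ A', a ^ p = 1) ∧ Nat.card A' = p ^ 3
  · obtain ⟨A', h1, h2, h3, h4⟩ := hex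
    exact bkI_final hp hP hrk Z hZcard hZc A' h1 h2 h3 h4
  · exfalso
    have := Cfsg.Agent.S0100.result hp (hP.to_quotient Z)
      (fun A hn hc he hcd => hex ⟨A, hn, hc, he, hcd⟩) (closure T) hEc hEe
    omega

end BkI

end Cfsg.Agent.Helper55
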