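import Cfsg.Agent.Helper1.C9Defs

/-!
CALL S1376 (helper1), piece FC: `c9_frobc`.
-/

set_option autoImplicit false

namespace Cfsg.Agent.Helper55

open Cfsg Subgroup

universe u

variable {G : Type u} [Group G] [Finite G]

/-- FC (pure).  `E ≠ ⊥`; `E ≠ M` (else `H ≤ E ⊓ H = ⊥`); for `g = a b ∈ M` (`a ∈ E`, `b ∈ H`),
`g ∉ E`, so `b ≠ 1`: if `z, w ∈ E` and `z = g w g⁻¹` then `z' := a⁻¹ z a = b w b⁻¹ ∈ E`,
`z' w⁻¹ = b (w b⁻¹ w⁻¹) ∈ E ⊓ H = ⊥`, so `b w = w b` and `w = 1` by `hreg`. -/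
theorem c9_frobc {M H E : Subgroup G} (hE : IsComplIn E H M) (hHn : M ≤ normalizer (H : Set G))
    (hE1 : E ≠ ⊥) (hH1 : H ≠ ⊥)
    (hreg : ∀ e ∈ E, e ≠ 1 → ∀ y ∈ H, e * y = y * e → y = 1) :
    IsFrobeniusComplement (E.subgroupOf M) := by
  obtain ⟨hEM, hHM, hEH, hfac⟩ := hE
  refine ⟨?_, ?_, ?_⟩
  · intro hbot
    apply hE1
    rw [eq_bot_iff]
    intro e he
    have : (⟨e, hEM he⟩ : ↥M) ∈ E.subgroupOf M := Subgroup.mem_subgroupOf.2 he
    rw [hbot, Subgroup.mem_bot] at this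
    exact Subgroup.mem_bot.2 (congrArg Subtype.val this)
  · intro htop
    apply hH1
    rw [eq_bot_iff]
    intro h hh
    have : (⟨h, hHM hh⟩ : ↥M) ∈ E.subgroupOf M := by rw [htop]; exact Subgroup.mem_top _
    have hhE : h ∈ E := Subgroup.mem_subgroupOf.1 this
    rw [← hEH]
    exact ⟨hhE, hh⟩
  · intro g hg
    have hgE : (g : G) ∉ E := fun h => hg (Subgroup.mem_subgroupOf.2 h)
    obtain ⟨a, ha, b, hb, hgab⟩ := hfac g g.2
    have hb1 : b ≠ 1 := by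
      intro hb1
      apply hgE
      rw [hgab, hb1, mul_one]
      exact ha
    rw [eq_bot_iff]
    intro z hz
    obtain ⟨hz1, hz2⟩ := Subgroup.mem_inf.1 hz
    have hzE : (z : G) ∈ E := Subgroup.mem_subgroupOf.1 hz1
    rw [Subgroup.mem_pointwise_smul_iff_inv_smul_mem] at hz2
    have hwE : ((MulAut.conj g)⁻¹ • z : ↥M) ∈ E.subgroupOf M := hz2
    have hwE' : (g : G)⁻¹ * (z : G) * (g : G) ∈ E := by
      have := Subgroup.mem_subgroupOf.1 hwE
      simpa [MulAut.smul_def, MulAut.conj_apply, MulAut.inv_apply, MulAut.conj_symm_apply] using this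
    set w : G := (g : G)⁻¹ * (z : G) * (g : G) with hw
    -- z = g w g⁻¹
    have hzw : (z : G) = a * b * w * b⁻¹ * a⁻¹ := by
      rw [hw, hgab]; group
    -- b w b⁻¹ = a⁻¹ z a ∈ E
    have h1 : b * w * b⁻¹ ∈ E := by
      have : b * w * b⁻¹ = a⁻¹ * (z : G) * a := by rw [hzw]; group
      rw [this]
      exact E.mul_mem (E.mul_mem (E.inv_mem ha) hzE) ha
    have h2 : b * w * b⁻¹ * w⁻¹ ∈ E := E.mul_mem h1 (E.inv_mem hwE')
    have h3 : b * w * b⁻¹ * w⁻¹ ∈ H := by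
      have hwM : w ∈ M := hEM hwE'
      have hwn := (Subgroup.mem_normalizer_iff.1 (hHn hwM) b⁻¹).1 (H.inv_mem hb)
      have : b * w * b⁻¹ * w⁻¹ = b * (w * b⁻¹ * w⁻¹) := by group
      rw [this]
      exact H.mul_mem hb hwn
    have h4 : b * w * b⁻¹ * w⁻¹ = 1 := by
      have : b * w * b⁻¹ * w⁻¹ ∈ E ⊓ H := ⟨h2, h3⟩
      rw [hEH] at this
      exact Subgroup.mem_bot.1 this
    have h5 : w * b = b * w := by
      calc w * b = (b * w * b⁻¹ * w⁻¹)⁻¹ * (b * w) := by group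
        _ = b * w := by rw [h4, inv_one, one_mul]
    have hw1 : w = 1 := by
      by_contra hw1
      exact hb1 (hreg w hwE' hw1 b hb h5)
    have hz1' : (z : G) = 1 := by
      rw [hzw, hw1]; group
    exact Subgroup.mem_bot.2 (Subtype.ext hz1')

end Cfsg.Agent.Helper55
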