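import Cfsg.Agent.Helper1.C9Defs
import Cfsg.Agent.Helper25.CN

/-!
CALL S1376 (helper1), piece G3: `c9_cent`.
-/

set_option autoImplicit false

namespace Cfsg.Agent.Helper55

open Cfsg Subgroup

universe u

variable {G : Type u} [Group G] [Finite G]

/-- an element killed by a power of `r` generates an `r`-group -/
theorem c9g3_zpowers_pgroup {X : Type*} [Group X] {r : ℕ} (x : X) (k : ℕ) (h : x ^ r ^ k = 1) :
    IsPGroup r ↥(Subgroup.zpowers x) := by
  rintro ⟨g, hg⟩
  obtain ⟨i, rfl⟩ := Subgroup.mem_zpowers_iff.1 hg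
  refine ⟨k, Subtype.ext ?_⟩
  simp only [Subgroup.coe_pow, Subgroup.coe_one]
  rw [← zpow_natCast, ← zpow_mul, mul_comm, zpow_mul, zpow_natCast, h, one_zpow]

/-- G3 (pure).  `D` nilpotent, `A ≤ D` an `r`-group, all `r`-subgroups of `G` abelian: `D`
centralizes `A` (the Sylow `r`-subgroup of `D` is normal and abelian and contains `A`; `r'`-elements
of `D` commute with `r`-elements). -/
theorem c9_cent {D A : Subgroup G} {r : ℕ} (hr : r.Prime) (hD : Group.IsNilpotent ↥D)
    (hAD : A ≤ D) (hA : IsPGroup r A)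
    (hab : ∀ P : Subgroup G, IsPGroup r P → ∀ a ∈ P, ∀ b ∈ P, a * b = b * a) :
    D ≤ centralizer (A : Set G) := by
  haveI : Fact r.Prime := ⟨hr⟩
  intro d hd
  rw [Subgroup.mem_centralizer_iff]
  intro a ha
  have haA : a ∈ A := ha
  -- a is killed by a power of r
  obtain ⟨j, hj⟩ := hA ⟨a, haA⟩
  have haj : a ^ r ^ j = 1 := by
    have := congrArg Subtype.val hj
    simpa using this
  -- a normal Sylow r-subgroup of D
  obtain ⟨P⟩ : Nonempty (Sylow r ↥D) := inferInstance
  have hPn : (P : Subgroup ↥D).Normal := by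
    haveI := hD
    infer_instance
  have key : ∀ x : ↥D, IsPGroup r ↥(Subgroup.zpowers x) → x ∈ (P : Subgroup ↥D) := by
    intro x hx
    obtain ⟨Q, hQ⟩ := hx.exists_le_sylow
    obtain ⟨g, rfl⟩ := MulAction.exists_smul_eq ↥D P Q
    rw [Sylow.smul_eq_of_normal] at hQ
    exact hQ (Subgroup.mem_zpowers x)
  have hPG : IsPGroup r ↥((P : Subgroup ↥D).map D.subtype) := P.2.map D.subtype
  -- decomposition of d
  set n := orderOf d with hn
  have hn0 : n ≠ 0 := (orderOf_pos d).ne'
  set k := n.factorization r with hk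
  set m := n / r ^ k with hm
  have hnm : r ^ k * m = n := Nat.ordProj_mul_ordCompl_eq_self n r
  have hcop : Nat.Coprime (r ^ k) m :=
    Nat.Coprime.pow_left _ (Nat.coprime_ordCompl hr hn0)
  -- d ^ m is an r-element of D
  have h1 : a * d ^ m = d ^ m * a := by
    have hx : (⟨d ^ m, D.pow_mem hd m⟩ : ↥D) ∈ (P : Subgroup ↥D) := by
      apply key
      apply c9g3_zpowers_pgroup _ k
      apply Subtype.ext
      simp only [Subgroup.coe_pow, Subgroup.coe_one]
      rw [← pow_mul, mul_comm, hnm, hn, pow_orderOf_eq_one]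
    have hy : (⟨a, hAD haA⟩ : ↥D) ∈ (P : Subgroup ↥D) := by
      apply key
      apply c9g3_zpowers_pgroup _ j
      apply Subtype.ext
      simp only [Subgroup.coe_pow, Subgroup.coe_one]
      exact haj
    exact hab _ hPG a (Subgroup.mem_map.2 ⟨_, hy, rfl⟩) (d ^ m) (Subgroup.mem_map.2 ⟨_, hx, rfl⟩)
  -- d ^ (r ^ k) has order prime to r
  have h2 : a * d ^ r ^ k = d ^ r ^ k * a := by
    haveI := hD
    have ho1 : orderOf (⟨a, hAD haA⟩ : ↥D) ∣ r ^ j := by
      apply orderOf_dvd_of_pow_eq_one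
      apply Subtype.ext
      simp only [Subgroup.coe_pow, Subgroup.coe_one]
      exact haj
    have ho2 : orderOf (⟨d ^ r ^ k, D.pow_mem hd _⟩ : ↥D) ∣ m := by
      apply orderOf_dvd_of_pow_eq_one
      apply Subtype.ext
      simp only [Subgroup.coe_pow, Subgroup.coe_one]
      rw [← pow_mul, hnm, hn, pow_orderOf_eq_one]
    have hc : (orderOf (⟨a, hAD haA⟩ : ↥D)).Coprime
        (orderOf (⟨d ^ r ^ k, D.pow_mem hd _⟩ : ↥D)) := by
      apply Nat.Coprime.coprime_dvd_left ho1
      apply Nat.Coprime.coprime_dvd_right ho2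
      exact Nat.Coprime.pow_left _ (Nat.coprime_ordCompl hr hn0)
    have := Cfsg.Agent.Helper25.commute_of_coprime_orderOf_of_isNilpotent ↥D _ _ hc
    have := congrArg Subtype.val this.eq
    simpa using this
  -- Bezout
  have hcopZ : IsCoprime ((r ^ k : ℕ) : ℤ) (m : ℤ) := Nat.isCoprime_iff_coprime.2 hcop
  obtain ⟨u, v, huv⟩ := hcopZ
  have hd' : d = (d ^ r ^ k) ^ u * (d ^ m) ^ v := by
    rw [← zpow_natCast, ← zpow_natCast, ← zpow_mul, ← zpow_mul, ← zpow_add]
    have : ((r ^ k : ℕ) : ℤ) * u + (m : ℤ) * v = 1 := by linarith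
    rw [this, zpow_one]
  have hc1 : Commute a (d ^ m) := h1
  have hc2 : Commute a (d ^ r ^ k) := h2
  have hc : Commute a ((d ^ r ^ k) ^ u * (d ^ m) ^ v) :=
    (hc2.zpow_right u).mul_right (hc1.zpow_right v)
  rw [hd']
  exact hc.eq

end Cfsg.Agent.Helper55
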