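import Cfsg.Agent.Helper1.C9Defs

/-!
CALL S1376 (helper1), piece G5: `c9_Gfin`.
-/

set_option autoImplicit false

namespace Cfsg.Agent.Helper55

open Cfsg Subgroup

universe u

variable {G : Type u} [Group G] [Finite G]

/-- the product set `C K` as a subgroup, when `K` normalizes `C` -/
def c9g5Prod (C K : Subgroup G) (hn : ∀ k ∈ K, ∀ c ∈ C, k * c * k⁻¹ ∈ C) : Subgroup G where
  carrier := {g | ∃ c ∈ C, ∃ k ∈ K, g = c * k}
  mul_mem' := by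
    rintro x y ⟨c, hc, k, hk, rfl⟩ ⟨c', hc', k', hk', rfl⟩
    refine ⟨c * (k * c' * k⁻¹), C.mul_mem hc (hn k hk c' hc'), k * k', K.mul_mem hk hk', ?_⟩
    group
  one_mem' := ⟨1, C.one_mem, 1, K.one_mem, by simp⟩
  inv_mem' := by
    rintro x ⟨c, hc, k, hk, rfl⟩
    refine ⟨k⁻¹ * c⁻¹ * k⁻¹⁻¹, hn k⁻¹ (K.inv_mem hk) c⁻¹ (C.inv_mem hc), k⁻¹, K.inv_mem hk, ?_⟩
    group

theorem c9g5_mem_prod {C K : Subgroup G} {hn : ∀ k ∈ K, ∀ c ∈ C, k * c * k⁻¹ ∈ C} {g : G} :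
    g ∈ c9g5Prod C K hn ↔ ∃ c ∈ C, ∃ k ∈ K, g = c * k := Iff.rfl

theorem c9g5_card_prod_le (C K : Subgroup G) (hn : ∀ k ∈ K, ∀ c ∈ C, k * c * k⁻¹ ∈ C) :
    Nat.card ↥(c9g5Prod C K hn) ≤ Nat.card C * Nat.card K := by
  rw [← Nat.card_prod]
  let f : ↥C × ↥K → ↥(c9g5Prod C K hn) := fun x => ⟨x.1.1 * x.2.1, ⟨x.1.1, x.1.2, x.2.1, x.2.2, rfl⟩⟩
  apply Nat.card_le_card_of_surjective f
  rintro ⟨g, c, hc, k, hk, rfl⟩
  exact ⟨(⟨c, hc⟩, ⟨k, hk⟩), rfl⟩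

/-- G5 (pure).  `N' := (Q ⊓ C(D)) ⊔ K` is normalized by `KL` (normalizes `Q ⊓ C(D)`, centralizes
`K`), by `D` and by `Q` (`a n a⁻¹ = (a n a⁻¹ n⁻¹) n`), hence by `L`; `Q ⊓ C(D) < N'` by `hdisj`, and
`N' < Q` by orders (`|N'| ≤ |Q ⊓ C(D)| |K| < |Q|`): against `hmin`. -/
theorem c9_Gfin {L K KL Q D : Subgroup G} (hK1 : K ≠ ⊥) (hKp : (Nat.card K).Prime)
    (hKL : 2 ≤ Nat.card KL) (hKQ : K ≤ Q) (hLle : L ≤ KL ⊔ (Q ⊔ D)) (hKLL : KL ≤ L)
    (hLn₀ : L ≤ normalizer ((Q ⊓ centralizer (D : Set G) : Subgroup G) : Set G))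
    (hcomm : ∀ a ∈ Q, ∀ b ∈ Q, a * b * a⁻¹ * b⁻¹ ∈ Q ⊓ centralizer (D : Set G))
    (hmin : ∀ N' : Subgroup G, Q ⊓ centralizer (D : Set G) < N' → N' < Q →
      ¬ L ≤ normalizer (N' : Set G))
    (hcard : Nat.card Q = Nat.card ↥(Q ⊓ centralizer (D : Set G)) * Nat.card K ^ Nat.card KL)
    (hdisj : K ⊓ (Q ⊓ centralizer (D : Set G)) = ⊥) (hDK : D ≤ normalizer (K : Set G))
    (hDL : D ≤ L) (hKLK : KL ≤ centralizer (K : Set G)) : False := by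
  set C0 : Subgroup G := Q ⊓ centralizer (D : Set G) with hC0
  have hC0Q : C0 ≤ Q := inf_le_left
  -- Q normalizes C0 (elementwise)
  have hQC : ∀ a ∈ Q, ∀ c ∈ C0, a * c * a⁻¹ ∈ C0 := by
    intro a ha c hc
    have h1 := hcomm a ha c (hC0Q hc)
    have : a * c * a⁻¹ = (a * c * a⁻¹ * c⁻¹) * c := by group
    rw [this]
    exact C0.mul_mem h1 hc
  have hn : ∀ k ∈ K, ∀ c ∈ C0, k * c * k⁻¹ ∈ C0 := fun k hk c hc => hQC k (hKQ hk) c hc
  set N' : Subgroup G := c9g5Prod C0 K hn with hN'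
  have hC0N : C0 ≤ N' := fun c hc => ⟨c, hc, 1, K.one_mem, by simp⟩
  have hKN : K ≤ N' := fun k hk => ⟨1, C0.one_mem, k, hk, by simp⟩
  have hNQ : N' ≤ Q := by
    rintro g ⟨c, hc, k, hk, rfl⟩
    exact Q.mul_mem (hC0Q hc) (hKQ hk)
  -- C0 < N'
  have hlt1 : C0 < N' := by
    refine lt_of_le_of_ne hC0N ?_
    intro heq
    apply hK1
    rw [eq_bot_iff]
    intro k hk
    have hkC : k ∈ C0 := by rw [heq]; exact hKN hk
    rw [← hdisj]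
    exact ⟨hk, hkC⟩
  -- N' < Q
  have hlt2 : N' < Q := by
    refine lt_of_le_of_ne hNQ ?_
    intro heq
    have h1 : Nat.card ↥N' ≤ Nat.card C0 * Nat.card K := c9g5_card_prod_le C0 K hn
    have h2 : Nat.card ↥N' = Nat.card Q := by rw [heq]
    have hK2 : 1 < Nat.card K := hKp.one_lt
    have h3 : Nat.card K < Nat.card K ^ Nat.card KL := lt_self_pow₀ hK2 (by omega)
    have hC0pos : 0 < Nat.card C0 := Nat.card_pos
    have h4 : Nat.card C0 * Nat.card K < Nat.card C0 * Nat.card K ^ Nat.card KL :=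
      Nat.mul_lt_mul_of_pos_left h3 hC0pos
    rw [h2, hcard] at h1
    omega
  -- a forward-normalizing element normalizes
  have hfwd : ∀ X : Subgroup G, (∀ a ∈ X, ∀ n ∈ N', a * n * a⁻¹ ∈ N') →
      X ≤ normalizer (N' : Set G) := by
    intro X hX a ha
    rw [Subgroup.mem_normalizer_iff]
    intro n
    refine ⟨fun h => hX a ha n h, fun h => ?_⟩
    have := hX a⁻¹ (X.inv_mem ha) _ h
    have h2 : a⁻¹ * (a * n * a⁻¹) * a⁻¹⁻¹ = n := by group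
    rwa [h2] at this
  -- L normalizes C0 (elementwise)
  have hLC : ∀ a ∈ L, ∀ c ∈ C0, a * c * a⁻¹ ∈ C0 := fun a ha c hc =>
    (Subgroup.mem_normalizer_iff.1 (hLn₀ ha) c).1 hc
  have hKLn : KL ≤ normalizer (N' : Set G) := by
    apply hfwd
    rintro a ha n ⟨c, hc, k, hk, rfl⟩
    have hak : k * a = a * k := (Subgroup.mem_centralizer_iff.1 (hKLK ha)) k hk
    refine ⟨a * c * a⁻¹, hLC a (hKLL ha) c hc, k, hk, ?_⟩
    have : a * k * a⁻¹ = k := by rw [← hak]; group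
    calc a * (c * k) * a⁻¹ = a * c * a⁻¹ * (a * k * a⁻¹) := by group
      _ = a * c * a⁻¹ * k := by rw [this]
  have hDn : D ≤ normalizer (N' : Set G) := by
    apply hfwd
    rintro a ha n ⟨c, hc, k, hk, rfl⟩
    refine ⟨a * c * a⁻¹, hLC a (hDL ha) c hc, a * k * a⁻¹,
      (Subgroup.mem_normalizer_iff.1 (hDK ha) k).1 hk, ?_⟩
    group
  have hQn : Q ≤ normalizer (N' : Set G) := by
    apply hfwd
    intro a ha n hn'
    have h1 := hcomm a ha n (hNQ hn')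
    have : a * n * a⁻¹ = (a * n * a⁻¹ * n⁻¹) * n := by group
    rw [this]
    exact N'.mul_mem (hC0N h1) hn'
  exact hmin N' hlt1 hlt2 (hLle.trans (sup_le hKLn (sup_le hQn hDn)))

end Cfsg.Agent.Helper55
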