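import Mathlib
import Cfsg.Agent.Helper77.D1Defs2
import Cfsg.Agent.Helper80.CharOrtho

/-! PIECE IC of CALL S4442B (helper77): the `θ`-coefficients are orthogonal to the `p`-regular
columns. Also the auxiliary fact `p ∣ orderOf (x ^ i * k)`. -/

universe u

set_option autoImplicit false

open Cfsg Cfsg.Agent.Helper77
open scoped ComplexConjugate

namespace Cfsg.Agent.Helper55

variable {G : Type u} [Group G] [Finite G]

theorem d1_dvd_orderOf (p : ℕ) [Fact p.Prime] (x : G) (K : Subgroup G) (h : D1Hyp p x K)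
    (i : ℕ) (hi : ¬ p ∣ i) (k : K) : p ∣ orderOf (x ^ i * (k : G)) := by
  have hp : p.Prime := Fact.out
  have hcomm : (k : G) * x = x * (k : G) := (h.hC k).2 ⟨0, k, k.2, by simp⟩
  have hc : Commute (x ^ i) (k : G) := (Commute.pow_left (show Commute x (k : G) from hcomm.symm) i)
  obtain ⟨m, hm⟩ : ∃ m, m = orderOf (x ^ i * (k : G)) := ⟨_, rfl⟩
  rw [← hm]
  have h1 : (x ^ i * (k : G)) ^ m = 1 := by rw [hm]; exact pow_orderOf_eq_one _
  rw [hc.mul_pow, ← pow_mul] at h1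
  have h2 : x ^ (i * m) = ((k : G) ^ m)⁻¹ := eq_inv_of_mul_eq_one_left h1
  have hK : x ^ (i * m) ∈ K := by
    rw [h2]; exact K.inv_mem (K.pow_mem k.2 m)
  have hd1 : orderOf (x ^ (i * m)) ∣ Nat.card K := Subgroup.orderOf_dvd_natCard K hK
  have hd2 : orderOf (x ^ (i * m)) ∣ p := by
    rw [← h.hx]; exact orderOf_pow_dvd (i * m)
  have hone : orderOf (x ^ (i * m)) = 1 := by
    rcases (Nat.dvd_prime hp).mp hd2 with h3 | h3
    · exact h3
    · exfalso; rw [h3] at hd1; exact h.hK hd1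
  rw [orderOf_eq_one_iff] at hone
  have h4 : p ∣ i * m := by
    rw [← h.hx]; exact orderOf_dvd_of_pow_eq_one hone
  rcases (Nat.Prime.dvd_mul hp).mp h4 with h5 | h5
  · exact absurd h5 hi
  · exact h5

theorem d1_dco_preg (p : ℕ) [Fact p.Prime] (x : G) (K : Subgroup G) (h : D1Hyp p x K)
    (θ : Cfsg.IrrCharacter K) (i : ℕ) (hi : ¬ p ∣ i) (g : G) (hg : ¬ p ∣ orderOf g) :
    ∑ᶠ χ : Cfsg.IrrCharacter G, dco K (θ : K → ℂ) (χ : G → ℂ) (x ^ i) * (χ : G → ℂ) g = 0 := by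
  classical
  letI := Fintype.ofFinite G
  letI := Fintype.ofFinite (Cfsg.IrrCharacter G)
  letI := Fintype.ofFinite K
  rw [finsum_eq_sum_of_fintype]
  have hterm : ∀ χ : Cfsg.IrrCharacter G,
      dco K (θ : K → ℂ) (χ : G → ℂ) (x ^ i) * (χ : G → ℂ) g
        = (Nat.card K : ℂ)⁻¹ * ∑ k : K, conj ((θ : K → ℂ) k) *
            ((χ : G → ℂ) (x ^ i * (k : G)) * conj ((χ : G → ℂ) g⁻¹)) := by
    intro χ
    unfold dco
    rw [finsum_eq_sum_of_fintype, mul_assoc, Finset.sum_mul]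
    congr 1
    apply Finset.sum_congr rfl
    intro k _
    rw [← Helper80.isCharacter_inv (Helper80.isCharacter_of_irr χ.2) g⁻¹, inv_inv]
    ring
  rw [Finset.sum_congr rfl (fun χ _ => hterm χ), ← Finset.mul_sum, Finset.sum_comm]
  have hinner : ∀ k : K, ∑ χ : Cfsg.IrrCharacter G, conj ((θ : K → ℂ) k) *
      ((χ : G → ℂ) (x ^ i * (k : G)) * conj ((χ : G → ℂ) g⁻¹)) = 0 := by
    intro k
    rw [← Finset.mul_sum, ← finsum_eq_sum_of_fintype,
      Helper80.irr_finsum_column_orthogonality_of_not_isConj, mul_zero]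
    intro hc
    apply hg
    have h1 := d1_dvd_orderOf p x K h i hi k
    obtain ⟨c, hc⟩ := isConj_iff.mp hc
    have h2 : orderOf g⁻¹ = orderOf (x ^ i * (k : G)) := by
      rw [← hc, ← MulAut.conj_apply, MulEquiv.orderOf_eq]
    rw [← h2, orderOf_inv] at h1
    exact h1
  rw [Finset.sum_congr rfl (fun k _ => hinner k), Finset.sum_const_zero, mul_zero]

end Cfsg.Agent.Helper55
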