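import Mathlib
import Cfsg.Agent.Helper77.D1Defs2
import Cfsg.Agent.Helper80.CharOrtho
import Cfsg.Agent.Helper65.D1IF

/-! PIECE IK of CALL S4442B (helper77): `dco K θ χ (x ^ i) ≠ 0 ↔ χ ∈ blkTheta K x θ` for `p ∤ i`
(an inertial automorphism moves `x` to `x ^ i`). -/

universe u

set_option autoImplicit false

open Cfsg Cfsg.Agent.Helper77
open scoped ComplexConjugate

namespace Cfsg.Agent.Helper55

variable {G : Type u} [Group G] [Finite G]

theorem d1_dco_ne_zero_iff (p : ℕ) [Fact p.Prime] (x : G) (K : Subgroup G) (h : D1Hyp p x K)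
    (θ : Cfsg.IrrCharacter K) (χ : Cfsg.IrrCharacter G) (i : ℕ) (hi : ¬ p ∣ i) :
    dco K (θ : K → ℂ) (χ : G → ℂ) (x ^ i) ≠ 0 ↔ χ ∈ blkTheta K x (θ : K → ℂ) := by
  classical
  have hp : p.Prime := Fact.out
  letI := Fintype.ofFinite K
  have hpG : p ∣ Nat.card G := by rw [← h.hx]; exact orderOf_dvd_natCard x
  obtain ⟨M₀, hM₀⟩ := hpG
  have hM₀p : ¬ p ∣ M₀ := by
    intro hd
    apply h.hsq
    rw [hM₀, pow_two]
    exact Nat.mul_dvd_mul_left p hd
  have hGM : Nat.card G ∣ p * M₀ := by rw [hM₀]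
  obtain ⟨h1, h2, -⟩ := Helper65.d1_inertial p x K h M₀ hM₀p hGM
  have hcop : Nat.Coprime i p := ((Nat.Prime.coprime_iff_not_dvd hp).mpr hi).symm
  obtain ⟨τ, hτfix, -, hτχ⟩ := h2 (ZMod.unitOfCoprime i hcop)
  obtain ⟨hτθ, -⟩ := h1 τ hτfix
  have hval : ((ZMod.unitOfCoprime i hcop : (ZMod p)ˣ) : ZMod p).val = i % p := by
    rw [ZMod.coe_unitOfCoprime, ZMod.val_natCast]
  have hxi : x ^ (i % p) = x ^ i := by
    rw [← h.hx]; exact pow_mod_orderOf x i
  have key : τ (dco K (θ : K → ℂ) (χ : G → ℂ) x) = dco K (θ : K → ℂ) (χ : G → ℂ) (x ^ i) := by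
    unfold dco
    rw [finsum_eq_sum_of_fintype, finsum_eq_sum_of_fintype, map_mul, map_inv₀, map_natCast,
      map_sum]
    congr 1
    apply Finset.sum_congr rfl
    intro k _
    rw [map_mul]
    have e1 : τ ((χ : G → ℂ) (x * (k : G))) = (χ : G → ℂ) (x ^ i * (k : G)) := by
      have h3 := hτχ χ 1 k
      rw [pow_one, one_mul, hval, hxi] at h3
      exact h3
    have e2 : τ (conj ((θ : K → ℂ) k)) = conj ((θ : K → ℂ) k) := by
      rw [← Helper80.isCharacter_inv (Helper80.isCharacter_of_irr θ.2) k]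
      exact hτθ θ k⁻¹
    rw [e1, e2]
  rw [← key]
  unfold blkTheta
  rw [Set.mem_setOf_eq]
  exact map_ne_zero_iff τ τ.injective

end Cfsg.Agent.Helper55
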