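import Mathlib
import Cfsg.Agent.Helper77.D1Defs2
import Cfsg.Agent.Helper29.D1IA
import Cfsg.Agent.Helper29.D1ID
import Cfsg.Agent.Helper75.LatGroup
import Cfsg.Agent.Helper79.Quotient
import Cfsg.Agent.Helper78.Counting
import Cfsg.Agent.Helper16.LocalRing

/-! PIECE MD of CALL S4442B (helper77): the value at `x` of a character in `blkTheta K x θ`. -/

universe u

set_option autoImplicit false

open Cfsg Cfsg.Agent.Helper77
open scoped ComplexConjugate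

namespace Cfsg.Agent.Helper55

variable {G : Type u} [Group G] [Finite G]

theorem d1md_pow_val_mul (p : ℕ) [Fact p.Prime] (x : G) (hx : orderOf x = p) (u v : (ZMod p)ˣ) :
    x ^ ((u * v : (ZMod p)ˣ) : ZMod p).val = x ^ ((u : ZMod p).val * (v : ZMod p).val) := by
  rw [pow_eq_pow_iff_modEq, hx, Units.val_mul, ZMod.val_mul]
  exact Nat.mod_modEq _ _

theorem d1md_pow_val_one (p : ℕ) [Fact p.Prime] (x : G) :
    x ^ ((1 : (ZMod p)ˣ) : ZMod p).val = x := by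
  have hp : p.Prime := Fact.out
  haveI : Fact (1 < p) := ⟨hp.one_lt⟩
  rw [Units.val_one, ZMod.val_one, pow_one]

theorem d1md_P_mul (p : ℕ) [Fact p.Prime] (x : G) (hx : orderOf x = p) (n m : G)
    (u v : (ZMod p)ˣ) (hn : n * x * n⁻¹ = x ^ (u : ZMod p).val)
    (hm : m * x * m⁻¹ = x ^ (v : ZMod p).val) :
    (m * n) * x * (m * n)⁻¹ = x ^ ((v * u : (ZMod p)ˣ) : ZMod p).val := by
  rw [d1md_pow_val_mul p x hx, pow_mul, ← hm, conj_pow, ← hn]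
  group

theorem d1md_P_inv (p : ℕ) [Fact p.Prime] (x : G) (hx : orderOf x = p) (n : G) (u : (ZMod p)ˣ)
    (hn : n * x * n⁻¹ = x ^ (u : ZMod p).val) :
    n⁻¹ * x * n⁻¹⁻¹ = x ^ ((u⁻¹ : (ZMod p)ˣ) : ZMod p).val := by
  have h1 : n * x ^ ((u⁻¹ : (ZMod p)ˣ) : ZMod p).val * n⁻¹ = x := by
    rw [← conj_pow, hn, ← pow_mul, ← d1md_pow_val_mul p x hx, mul_inv_cancel, d1md_pow_val_one]
  rw [inv_inv]
  calc n⁻¹ * x * n = n⁻¹ * (n * x ^ ((u⁻¹ : (ZMod p)ˣ) : ZMod p).val * n⁻¹) * n := by rw [h1]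
    _ = x ^ ((u⁻¹ : (ZMod p)ˣ) : ZMod p).val := by group

theorem d1md_P_norm (x : G) (n : G) (j : ℕ) (hn : n * x * n⁻¹ = x ^ j) :
    n ∈ Subgroup.normalizer ((Subgroup.zpowers x : Subgroup G) : Set G) := by
  apply Subgroup.mem_normalizer_fintype
  intro g hg
  obtain ⟨z, rfl⟩ := Subgroup.mem_zpowers_iff.mp hg
  have h1 : n * x ^ z * n⁻¹ = (n * x * n⁻¹) ^ z := (conj_zpow).symm
  rw [h1, hn]
  exact Subgroup.zpow_mem _ (Subgroup.pow_mem _ (Subgroup.mem_zpowers x) j) z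

theorem d1md_T_inv (K : Subgroup G) (n : G) (θ₁ θ₂ : K → ℂ) (h : thetaConj K n θ₁ θ₂) :
    thetaConj K n⁻¹ θ₂ θ₁ := by
  intro k k' hk
  have h1 : (k : G) = n * (k' : G) * n⁻¹ := by rw [hk]; group
  exact (h k' k h1).symm

theorem d1md_T_mul (K : Subgroup G) (n m : G) (hnK : ∀ k ∈ K, n * k * n⁻¹ ∈ K)
    (θ₁ θ₂ θ₃ : K → ℂ) (h1 : thetaConj K n θ₁ θ₂) (h2 : thetaConj K m θ₂ θ₃) :
    thetaConj K (m * n) θ₁ θ₃ := by
  intro k k' hk
  have e1 := h1 k ⟨n * k * n⁻¹, hnK k k.2⟩ rfl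
  have e2 := h2 ⟨n * k * n⁻¹, hnK k k.2⟩ k' (by
    show (k' : G) = m * (n * (k : G) * n⁻¹) * m⁻¹
    rw [hk]; group)
  rw [e2, e1]

theorem d1md_class (K : Subgroup G) (θ : Cfsg.IrrCharacter K) (a k : K) :
    (θ : K → ℂ) (a * k * a⁻¹) = (θ : K → ℂ) k := by
  obtain ⟨m, ρ, -, hχ⟩ := θ.2
  rw [← hχ, Representation.char_conj]

theorem d1md_T_cent (p : ℕ) [Fact p.Prime] (x : G) (K : Subgroup G) (h : D1Hyp p x K)
    (θ : Cfsg.IrrCharacter K) (c : G) (hc : c * x = x * c) :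
    thetaConj K c (θ : K → ℂ) (θ : K → ℂ) := by
  obtain ⟨i, k₀, hk₀, rfl⟩ := (h.hC c).1 hc
  intro k k' hk
  have hkx : (k : G) * x = x * (k : G) := (h.hC k).2 ⟨0, k, k.2, by simp⟩
  have hk₀x : k₀ * x = x * k₀ := (h.hC k₀).2 ⟨0, k₀, hk₀, by simp⟩
  have h1 : k' = (⟨k₀, hk₀⟩ : K) * k * (⟨k₀, hk₀⟩ : K)⁻¹ := by
    apply Subtype.ext
    show (k' : G) = k₀ * (k : G) * k₀⁻¹
    rw [hk]
    have h2 : Commute (x ^ i) (k₀ * (k : G) * k₀⁻¹) := by
      apply Commute.pow_left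
      have a1 : Commute x k₀ := hk₀x.symm
      have a2 : Commute x (k : G) := hkx.symm
      exact (a1.mul_right a2).mul_right a1.inv_right
    calc x ^ i * k₀ * (k : G) * (x ^ i * k₀)⁻¹
        = (x ^ i * (k₀ * (k : G) * k₀⁻¹)) * (x ^ i)⁻¹ := by group
      _ = k₀ * (k : G) * k₀⁻¹ := by rw [h2.eq]; group
  rw [h1]
  exact d1md_class K θ ⟨k₀, hk₀⟩ k

theorem d1md_conj_irr (K : Subgroup G) (n : G) (hnK : ∀ k ∈ K, n * k * n⁻¹ ∈ K)
    (hnK' : ∀ k ∈ K, n⁻¹ * k * n ∈ K) (θ : Cfsg.IrrCharacter K) :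
    ∃ θ' : Cfsg.IrrCharacter K, thetaConj K n (θ' : K → ℂ) (θ : K → ℂ) := by
  let e : K ≃* K :=
    { toFun := fun k => ⟨n * k.1 * n⁻¹, hnK k.1 k.2⟩
      invFun := fun k => ⟨n⁻¹ * k.1 * n, hnK' k.1 k.2⟩
      left_inv := fun k => Subtype.ext (by simp [mul_assoc])
      right_inv := fun k => Subtype.ext (by simp [mul_assoc])
      map_mul' := fun a b => Subtype.ext (by simp [mul_assoc]) }
  refine ⟨⟨fun k => (θ : K → ℂ) (e k), (Helper79.isIrrCharacter_mulEquiv e).mpr θ.2⟩, ?_⟩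
  intro k k' hk
  have h1 : k' = e k := Subtype.ext hk
  rw [h1]

theorem d1_value_at_x (p : ℕ) [Fact p.Prime] (hcc : D1CCStmt G p) (hinj : D1InjStmt G p)
    (x : G) (K : Subgroup G) (h : D1Hyp p x K) (θ : Cfsg.IrrCharacter K)
    (χ : Cfsg.IrrCharacter G) (hχ : χ ∈ blkTheta K x (θ : K → ℂ)) :
    (Nat.card (stabUnits p x K (θ : K → ℂ)) : ℂ) * (χ : G → ℂ) x
      = (θ : K → ℂ) 1 * ∑ᶠ u ∈ normUnits p x,
          dco K (θ : K → ℂ) (χ : G → ℂ) (x ^ (u : ZMod p).val) := by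
  classical
  have hp : p.Prime := Fact.out
  haveI : NeZero p := ⟨hp.ne_zero⟩
  letI : Fintype (Cfsg.IrrCharacter K) := Fintype.ofFinite _
  have hN : ∀ (n : G) (u : (ZMod p)ˣ), n * x * n⁻¹ = x ^ (u : ZMod p).val →
      n ∈ Subgroup.normalizer ((Subgroup.zpowers x : Subgroup G) : Set G) :=
    fun n u hn => d1md_P_norm x n _ hn
  have hNK : ∀ n : G, n ∈ Subgroup.normalizer ((Subgroup.zpowers x : Subgroup G) : Set G) →
      ∀ k ∈ K, n * k * n⁻¹ ∈ K := fun n hn k hk =>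
    Helper75.lat_K_normal p x h.hx K h.hK h.hC n hn k hk
  obtain ⟨R, hR⟩ : ∃ R : (ZMod p)ˣ → Cfsg.IrrCharacter K → Prop,
      R = fun (u : (ZMod p)ˣ) (θ' : Cfsg.IrrCharacter K) =>
      ∃ n : G, n * x * n⁻¹ = x ^ (u : ZMod p).val ∧ thetaConj K n (θ' : K → ℂ) (θ : K → ℂ) :=
    ⟨_, rfl⟩
  have hRF : ∀ u θ', R u θ' → u ∈ normUnits p x := by
    intro u θ' h1
    rw [hR] at h1
    obtain ⟨n, hn, -⟩ := h1
    exact ⟨n, hn⟩
  -- B1
  have B1 : ∀ u ∈ normUnits p x, ∃ θ', R u θ' := by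
    rintro u ⟨n, hn⟩
    have hnN := hN n u hn
    have hnN' : n⁻¹ ∈ Subgroup.normalizer ((Subgroup.zpowers x : Subgroup G) : Set G) :=
      inv_mem hnN
    obtain ⟨θ', hθ'⟩ := d1md_conj_irr K n (hNK n hnN) (fun k hk => by
      have h1 := hNK n⁻¹ hnN' k hk
      rwa [inv_inv] at h1) θ
    exact ⟨θ', by rw [hR]; exact ⟨n, hn, hθ'⟩⟩
  -- B2
  have B2 : ∀ u θ' θ'', R u θ' → R u θ'' → θ' = θ'' := by
    intro u θ' θ'' h1 h2
    rw [hR] at h1 h2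
    obtain ⟨n, hn, hT⟩ := h1
    obtain ⟨n', hn', hT'⟩ := h2
    have hc := d1md_P_mul p x h.hx n' n⁻¹ u u⁻¹ hn' (d1md_P_inv p x h.hx n u hn)
    rw [inv_mul_cancel, d1md_pow_val_one] at hc
    have hcx : (n⁻¹ * n') * x = x * (n⁻¹ * n') := by
      calc (n⁻¹ * n') * x = ((n⁻¹ * n') * x * (n⁻¹ * n')⁻¹) * (n⁻¹ * n') := by group
        _ = x * (n⁻¹ * n') := by rw [hc]
    have hT2 : thetaConj K (n⁻¹ * n') (θ'' : K → ℂ) (θ' : K → ℂ) :=
      d1md_T_mul K n' n⁻¹ (hNK n' (hN n' u hn')) _ _ _ hT' (d1md_T_inv K n _ _ hT)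
    have hT3 := d1md_T_cent p x K h θ'' (n⁻¹ * n') hcx
    have hcN : (n⁻¹ * n')⁻¹ ∈ Subgroup.normalizer ((Subgroup.zpowers x : Subgroup G) : Set G) :=
      inv_mem (d1md_P_norm x (n⁻¹ * n') 1 (by rw [hc, pow_one]))
    apply Subtype.ext
    funext k'
    have hmem := hNK _ hcN k' k'.2
    have hk : (k' : G) = (n⁻¹ * n') * (((n⁻¹ * n')⁻¹ * (k' : G) * (n⁻¹ * n')⁻¹⁻¹)) * (n⁻¹ * n')⁻¹ := by
      group
    have e1 := hT2 ⟨_, hmem⟩ k' hk
    have e2 := hT3 ⟨_, hmem⟩ k' hk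
    rw [e1, ← e2]
  -- B3
  have B3 : ∀ u θ', R u θ' →
      dco K (θ : K → ℂ) (χ : G → ℂ) (x ^ (u : ZMod p).val) = dco K (θ' : K → ℂ) (χ : G → ℂ) x := by
    intro u θ' h1
    rw [hR] at h1
    obtain ⟨n, hn, hT⟩ := h1
    have h2 := Helper29.d1_dco_conj p x K h (θ' : K → ℂ) (θ : K → ℂ) n (hN n u hn) hT χ x
    rw [hn] at h2
    exact h2
  -- B4
  have B4 : ∀ u θ', R u θ' → (θ' : K → ℂ) 1 = (θ : K → ℂ) 1 := by
    intro u θ' h1
    rw [hR] at h1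
    obtain ⟨n, hn, hT⟩ := h1
    exact (hT 1 1 (by simp)).symm
  -- B5
  have B5 : ∀ u₀ θ', R u₀ θ' →
      {u | R u θ'} = (fun e => e * u₀) '' stabUnits p x K (θ : K → ℂ) := by
    intro u₀ θ' hu₀
    rw [hR] at hu₀
    obtain ⟨n₀, hn₀, hT₀⟩ := hu₀
    ext u
    constructor
    · intro hu
      rw [Set.mem_setOf_eq, hR] at hu
      obtain ⟨n, hn, hT⟩ := hu
      refine ⟨u * u₀⁻¹, ?_, inv_mul_cancel_right u u₀⟩
      refine ⟨n * n₀⁻¹, d1md_P_mul p x h.hx n₀⁻¹ n u₀⁻¹ u (d1md_P_inv p x h.hx n₀ u₀ hn₀) hn, ?_⟩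
      exact d1md_T_mul K n₀⁻¹ n (hNK n₀⁻¹ (inv_mem (hN n₀ u₀ hn₀))) _ _ _
        (d1md_T_inv K n₀ _ _ hT₀) hT
    · rintro ⟨e, ⟨m, hm, hTm⟩, rfl⟩
      rw [Set.mem_setOf_eq, hR]
      refine ⟨m * n₀, d1md_P_mul p x h.hx n₀ m u₀ e hn₀ hm, ?_⟩
      exact d1md_T_mul K n₀ m (hNK n₀ (hN n₀ u₀ hn₀)) _ _ _ hT₀ hTm
  -- B6
  have B6 : ∀ θ' : Cfsg.IrrCharacter K, dco K (θ' : K → ℂ) (χ : G → ℂ) x ≠ 0 → ∃ u, R u θ' := by
    obtain ⟨M, hM⟩ := Helper78.exists_isPModular p hp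
    have hMmax : M.IsMaximal := hM.2.1
    intro θ' hθ'
    have c1 := hcc M x K hM h θ χ hχ
    have c2 := hcc M x K hM h θ' χ hθ'
    obtain ⟨n, hnz, hT⟩ := hinj M x K hM h θ' θ (fun g => by
      have h1 := Helper16.memLocalIdeal_sub hMmax (c1 g) (c2 g)
      have e : Cfsg.centralChar (χ : G → ℂ) g - omTheta p x K (θ : K → ℂ) g
          - (Cfsg.centralChar (χ : G → ℂ) g - omTheta p x K (θ' : K → ℂ) g)
          = omTheta p x K (θ' : K → ℂ) g - omTheta p x K (θ : K → ℂ) g := by ring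
      rwa [e] at h1)
    obtain ⟨j, hj⟩ := (Submonoid.mem_powers_iff _ _).mp ((mem_powers_iff_mem_zpowers).mpr hnz)
    have hjp : ¬ p ∣ j := by
      intro hd
      have h1 : x ^ j = 1 := by
        rw [← h.hx] at hd
        exact orderOf_dvd_iff_pow_eq_one.mp hd
      rw [h1] at hj
      have h2 : x = 1 := by
        have h3 : n⁻¹ * (n * x * n⁻¹) * n = x := by group
        rw [← h3, ← hj]; group
      have h4 : orderOf x = 1 := by rw [h2, orderOf_one]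
      rw [h.hx] at h4
      exact hp.one_lt.ne' h4
    have hcop : Nat.Coprime j p := ((Nat.Prime.coprime_iff_not_dvd hp).mpr hjp).symm
    refine ⟨ZMod.unitOfCoprime j hcop, ?_⟩
    rw [hR]
    refine ⟨n, ?_, hT⟩
    have hxj : x ^ (j % p) = x ^ j := by
      rw [← h.hx]; exact pow_mod_orderOf x j
    rw [ZMod.coe_unitOfCoprime, ZMod.val_natCast, hxj, hj]
  -- Step A
  have hA : (χ : G → ℂ) x
      = ∑ θ' : Cfsg.IrrCharacter K, dco K (θ' : K → ℂ) (χ : G → ℂ) x * (θ' : K → ℂ) 1 := by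
    have h1 := Helper29.d1_dco_expand p x K h χ 1 1
    rw [pow_one, OneMemClass.coe_one, mul_one, finsum_eq_sum_of_fintype] at h1
    exact h1
  have hA' : (χ : G → ℂ) x
      = (θ : K → ℂ) 1 * ∑ θ' : Cfsg.IrrCharacter K, dco K (θ' : K → ℂ) (χ : G → ℂ) x := by
    rw [hA, Finset.mul_sum]
    apply Finset.sum_congr rfl
    intro θ' _
    by_cases h0 : dco K (θ' : K → ℂ) (χ : G → ℂ) x = 0
    · rw [h0, zero_mul, mul_zero]
    · obtain ⟨u, hu⟩ := B6 θ' h0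
      rw [B4 u θ' hu, mul_comm]
  -- Step (ii)
  have hB : ∑ᶠ u ∈ normUnits p x, dco K (θ : K → ℂ) (χ : G → ℂ) (x ^ (u : ZMod p).val)
      = (Nat.card (stabUnits p x K (θ : K → ℂ)) : ℂ)
          * ∑ θ' : Cfsg.IrrCharacter K, dco K (θ' : K → ℂ) (χ : G → ℂ) x := by
    rw [finsum_mem_def, finsum_eq_sum_of_fintype]
    have hterm : ∀ u : (ZMod p)ˣ,
        (normUnits p x).indicator
          (fun u : (ZMod p)ˣ => dco K (θ : K → ℂ) (χ : G → ℂ) (x ^ (u : ZMod p).val)) u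
        = ∑ θ' : Cfsg.IrrCharacter K,
            if R u θ' then dco K (θ' : K → ℂ) (χ : G → ℂ) x else 0 := by
      intro u
      rw [Set.indicator_apply]
      by_cases hu : u ∈ normUnits p x
      · rw [if_pos hu]
        obtain ⟨θ₀, hθ₀⟩ := B1 u hu
        have h1 : ∀ θ' : Cfsg.IrrCharacter K,
            (if R u θ' then dco K (θ' : K → ℂ) (χ : G → ℂ) x else 0)
              = if θ' = θ₀ then dco K (θ' : K → ℂ) (χ : G → ℂ) x else 0 := by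
          intro θ'
          by_cases h2 : θ' = θ₀
          · rw [if_pos h2, if_pos (by rw [h2]; exact hθ₀)]
          · rw [if_neg h2, if_neg (fun h3 => h2 (B2 u θ' θ₀ h3 hθ₀))]
        rw [Finset.sum_congr rfl (fun θ' _ => h1 θ'), Finset.sum_ite_eq' Finset.univ θ₀,
          if_pos (Finset.mem_univ _)]
        exact B3 u θ₀ hθ₀
      · rw [if_neg hu]
        symm
        apply Finset.sum_eq_zero
        intro θ' _
        rw [if_neg (fun h3 => hu (hRF u θ' h3))]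
    rw [Finset.sum_congr rfl (fun u _ => hterm u), Finset.sum_comm, Finset.mul_sum]
    apply Finset.sum_congr rfl
    intro θ' _
    rw [← Finset.sum_filter, Finset.sum_const, nsmul_eq_mul]
    by_cases hex : ∃ u₀, R u₀ θ'
    · obtain ⟨u₀, hu₀⟩ := hex
      have e1 : (Finset.univ.filter (fun u => R u θ')).card
          = ({u | R u θ'} : Set (ZMod p)ˣ).ncard := by
        rw [← Set.ncard_coe_finset]
        congr 1
        ext u
        simp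
      rw [e1, B5 u₀ θ' hu₀, Set.ncard_image_of_injective _ (mul_left_injective u₀),
        Nat.card_coe_set_eq]
    · have h0 : dco K (θ' : K → ℂ) (χ : G → ℂ) x = 0 := by
        by_contra h1
        exact hex (B6 θ' h1)
      rw [h0, mul_zero, mul_zero]
  rw [hB, hA']
  ring

end Cfsg.Agent.Helper55
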