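import Mathlib

set_option autoImplicit false

/-!
# Piece STRUCT2 of CALL S6002 (helper69), by helper55

A group of order 32 and exponent 4 with centre of order 2 in which every characteristic abelian
subgroup is cyclic has central squares and central commutators (it is extraspecial).
The argument follows Helper69.E4STRUCT; the new point is that `Z(Z₂(G))` is the centre.
-/

namespace Cfsg.Agent.Helper55

theorem e5s_mem_Z2 {G : Type*} [Group G] (u : G) :
    u ∈ Subgroup.upperCentralSeries G 2 ↔ ∀ y : G, u * y * u⁻¹ * y⁻¹ ∈ Subgroup.center G := by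
  rw [show (2 : ℕ) = 1 + 1 from rfl, Subgroup.mem_upperCentralSeries_succ_iff,
    Subgroup.upperCentralSeries_one]
  rfl

theorem e5s_hmul {G : Type*} [Group G] (u : G)
    (hu : ∀ y : G, u * y * u⁻¹ * y⁻¹ ∈ Subgroup.center G) (a b : G) :
    u * (a * b) * u⁻¹ * (a * b)⁻¹ = (u * a * u⁻¹ * a⁻¹) * (u * b * u⁻¹ * b⁻¹) := by
  have hb : u * b * u⁻¹ * b⁻¹ ∈ Subgroup.center G := hu b
  have hc := Subgroup.mem_center_iff.mp hb a⁻¹
  calc u * (a * b) * u⁻¹ * (a * b)⁻¹ = (u * a * u⁻¹) * ((u * b * u⁻¹ * b⁻¹) * a⁻¹) := by group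
    _ = (u * a * u⁻¹) * (a⁻¹ * (u * b * u⁻¹ * b⁻¹)) := by rw [hc]
    _ = (u * a * u⁻¹ * a⁻¹) * (u * b * u⁻¹ * b⁻¹) := by group

theorem e5s_hinv {G : Type*} [Group G] (u : G)
    (hu : ∀ y : G, u * y * u⁻¹ * y⁻¹ ∈ Subgroup.center G) (x : G) :
    u * x⁻¹ * u⁻¹ * x⁻¹⁻¹ = (u * x * u⁻¹ * x⁻¹)⁻¹ := by
  have h1 := e5s_hmul u hu x x⁻¹
  rw [mul_inv_cancel] at h1
  have h2 : u * 1 * u⁻¹ * (1 : G)⁻¹ = 1 := by group
  rw [h2] at h1
  exact (inv_eq_of_mul_eq_one_right h1.symm).symm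

theorem e5s_comm_of {G : Type*} [Group G] (u x : G) (h1 : u * x * u⁻¹ * x⁻¹ = 1) :
    u * x = x * u := by
  have : u * x = (u * x * u⁻¹ * x⁻¹) * (x * u) := by group
  rw [this, h1, one_mul]

theorem e5s_sq_comm {G : Type*} [Group G] (a g t : G) (ht : ∀ x : G, x * t = t * x)
    (h : a * g = t * (g * a)) (ht2 : t * t = 1) : a * a * g = g * (a * a) := by
  calc a * a * g = a * (a * g) := by rw [mul_assoc]
    _ = a * (t * (g * a)) := by rw [h]
    _ = (a * t) * (g * a) := by rw [mul_assoc]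
    _ = (t * a) * (g * a) := by rw [ht a]
    _ = t * ((a * g) * a) := by simp only [mul_assoc]
    _ = t * ((t * (g * a)) * a) := by rw [h]
    _ = (t * t) * (g * (a * a)) := by simp only [mul_assoc]
    _ = g * (a * a) := by rw [ht2, one_mul]

theorem e5s_arith (b u : ℕ) (h1 : 4 ∣ b) (h2 : b ∣ u) (h3 : u ∣ 16) (h4 : b ≠ 4) (h5 : b ≠ u) :
    u = 16 := by
  have hu : u ≤ 16 := Nat.le_of_dvd (by norm_num) h3
  have hb : b ≤ u := Nat.le_of_dvd (Nat.pos_of_dvd_of_pos h3 (by norm_num)) h2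
  interval_cases u <;> first | rfl | (exfalso; interval_cases b <;> omega)

/-- everything follows once `Z(Z₂(G)) = Z(G)` (the argument of `Helper69.e4_struct`). -/
theorem e5s_of_AZ {G : Type*} [Group G] [Finite G] (hp : IsPGroup 2 G)
    (hsqZ : ∀ x ∈ Subgroup.center G, x ^ 2 = 1)
    (hAZ : Subgroup.upperCentralSeries G 2 ⊓
      Subgroup.centralizer (Subgroup.upperCentralSeries G 2 : Set G) = Subgroup.center G)
    (g h : G) :
    g ^ 2 ∈ Subgroup.center G ∧ g * h * g⁻¹ * h⁻¹ ∈ Subgroup.center G := by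
  classical
  haveI : Fact (Nat.Prime 2) := ⟨Nat.prime_two⟩
  obtain ⟨Z2, hZ2⟩ : ∃ Z2 : Subgroup G, Z2 = Subgroup.upperCentralSeries G 2 := ⟨_, rfl⟩
  rw [← hZ2] at hAZ
  have hZ2mem : ∀ u : G, u ∈ Z2 ↔ ∀ y : G, u * y * u⁻¹ * y⁻¹ ∈ Subgroup.center G := by
    intro u
    rw [hZ2]
    exact e5s_mem_Z2 u
  have hCnormal : (Subgroup.centralizer (Z2 : Set G)).Normal := by
    rw [hZ2]
    infer_instance
  have hnil : Group.IsNilpotent G := hp.isNilpotent
  have hC : ∀ k : ℕ, ∀ c ∈ Subgroup.centralizer (Z2 : Set G),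
      c ∈ Subgroup.upperCentralSeries G (k + 1) → c ∈ Subgroup.center G := by
    intro k
    induction k with
    | zero =>
      intro c _ hc
      rw [zero_add, Subgroup.upperCentralSeries_one] at hc
      exact hc
    | succ k ih =>
      intro c hcC hc
      have h1 : ∀ y : G, c * y * c⁻¹ * y⁻¹ ∈ Subgroup.center G := by
        intro y
        apply ih
        · have h2 : c * y * c⁻¹ * y⁻¹ = c * (y * c⁻¹ * y⁻¹) := by group
          rw [h2]
          exact Subgroup.mul_mem _ hcC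
            (hCnormal.conj_mem _ (Subgroup.inv_mem _ hcC) y)
        · exact (Subgroup.mem_upperCentralSeries_succ_iff.mp hc) y
      have h3 : c ∈ Z2 ⊓ Subgroup.centralizer (Z2 : Set G) := ⟨(hZ2mem c).mpr h1, hcC⟩
      rw [hAZ] at h3
      exact h3
  have hCZ : ∀ c ∈ Subgroup.centralizer (Z2 : Set G), c ∈ Subgroup.center G := by
    intro c hc
    obtain ⟨n, hn⟩ := hnil.nilpotent
    apply hC n c hc
    have : Subgroup.upperCentralSeries G n ≤ Subgroup.upperCentralSeries G (n + 1) :=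
      Subgroup.upperCentralSeries_mono G (Nat.le_succ n)
    apply this
    rw [hn]
    exact Subgroup.mem_top c
  have hmul : ∀ u ∈ Z2, ∀ a b : G, u * (a * b) * u⁻¹ * (a * b)⁻¹ =
      (u * a * u⁻¹ * a⁻¹) * (u * b * u⁻¹ * b⁻¹) :=
    fun u hu a b => e5s_hmul u ((hZ2mem u).mp hu) a b
  have hsq : ∀ x : G, x ^ 2 ∈ Subgroup.centralizer (Z2 : Set G) := by
    intro x
    rw [Subgroup.mem_centralizer_iff]
    intro u hu
    apply e5s_comm_of
    rw [pow_two, hmul u hu x x, ← pow_two]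
    exact hsqZ _ ((hZ2mem u).mp hu x)
  have hcm : ∀ x y : G, x * y * x⁻¹ * y⁻¹ ∈ Subgroup.centralizer (Z2 : Set G) := by
    intro x y
    rw [Subgroup.mem_centralizer_iff]
    intro u hu
    apply e5s_comm_of
    have hx : u * x * u⁻¹ * x⁻¹ ∈ Subgroup.center G := (hZ2mem u).mp hu x
    have hy : u * y * u⁻¹ * y⁻¹ ∈ Subgroup.center G := (hZ2mem u).mp hu y
    have hxi := e5s_hinv u ((hZ2mem u).mp hu) x
    have hyi := e5s_hinv u ((hZ2mem u).mp hu) y
    rw [hmul u hu (x * y * x⁻¹) y⁻¹, hmul u hu (x * y) x⁻¹, hmul u hu x y, hxi, hyi]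
    have hc := Subgroup.mem_center_iff.mp hy (u * x * u⁻¹ * x⁻¹)
    calc (u * x * u⁻¹ * x⁻¹) * (u * y * u⁻¹ * y⁻¹) * (u * x * u⁻¹ * x⁻¹)⁻¹ *
          (u * y * u⁻¹ * y⁻¹)⁻¹
        = ((u * x * u⁻¹ * x⁻¹) * (u * y * u⁻¹ * y⁻¹)) * (u * x * u⁻¹ * x⁻¹)⁻¹ *
          (u * y * u⁻¹ * y⁻¹)⁻¹ := by group
      _ = ((u * y * u⁻¹ * y⁻¹) * (u * x * u⁻¹ * x⁻¹)) * (u * x * u⁻¹ * x⁻¹)⁻¹ *
          (u * y * u⁻¹ * y⁻¹)⁻¹ := by rw [hc]
      _ = 1 := by group
  exact ⟨hCZ _ (hsq g), hCZ _ (hcm g h)⟩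

/-- the key new point: `Z(Z₂(G))` is the centre. -/
theorem e5s_AZ {G : Type*} [Group G] [Finite G]
    (hexp : Monoid.exponent G = 4) (hcard : Nat.card G = 32)
    (hZ : Nat.card (Subgroup.center G) = 2)
    (hchar : ∀ A : Subgroup G, A.Characteristic → IsMulCommutative A → IsCyclic A) :
    Subgroup.upperCentralSeries G 2 ⊓
      Subgroup.centralizer (Subgroup.upperCentralSeries G 2 : Set G) = Subgroup.center G := by
  classical
  have hexp4 : ∀ g : G, g ^ 4 = 1 := by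
    intro g
    rw [← hexp]
    exact Monoid.pow_exponent_eq_one g
  obtain ⟨U, hU⟩ : ∃ U : Subgroup G, U = Subgroup.upperCentralSeries G 2 := ⟨_, rfl⟩
  rw [← hU]
  have hUmem : ∀ u : G, u ∈ U ↔ ∀ y : G, u * y * u⁻¹ * y⁻¹ ∈ Subgroup.center G := by
    intro u
    rw [hU]
    exact e5s_mem_Z2 u
  have hZle : Subgroup.center G ≤ U := by
    rw [hU, ← Subgroup.upperCentralSeries_one]
    exact Subgroup.upperCentralSeries_mono G (by norm_num)
  obtain ⟨A, hA⟩ : ∃ A : Subgroup G, A = U ⊓ Subgroup.centralizer (U : Set G) := ⟨_, rfl⟩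
  rw [← hA]
  have hAchar : A.Characteristic := by
    rw [hA, hU]
    infer_instance
  have hAU : A ≤ U := by
    rw [hA]
    exact inf_le_left
  have hAcent : ∀ x ∈ A, ∀ u ∈ U, x * u = u * x := by
    intro x hx u hu
    rw [hA] at hx
    exact (Subgroup.mem_centralizer_iff.mp hx.2 u hu).symm
  have hAcomm : IsMulCommutative A := by
    refine ⟨⟨fun a b => ?_⟩⟩
    apply Subtype.ext
    show (a : G) * (b : G) = (b : G) * (a : G)
    exact hAcent a a.2 b (hAU b.2)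
  have hAcyc : IsCyclic A := hchar A hAchar hAcomm
  have hZA : Subgroup.center G ≤ A := by
    rw [hA]
    refine le_inf hZle ?_
    intro z hz
    rw [Subgroup.mem_centralizer_iff]
    intro k _
    exact Subgroup.mem_center_iff.mp hz k
  by_contra hne
  -- a generator of `A`
  obtain ⟨⟨a, haA⟩, hgen⟩ := hAcyc.exists_generator
  have hAz : ∀ x ∈ A, x ∈ Subgroup.zpowers a := by
    intro x hx
    obtain ⟨k, hk⟩ := Subgroup.mem_zpowers_iff.mp (hgen ⟨x, hx⟩)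
    refine Subgroup.mem_zpowers_iff.mpr ⟨k, ?_⟩
    have h1 := congrArg Subtype.val hk
    rw [Subgroup.coe_zpow] at h1
    exact h1
  have haU : a ∈ U := hAU haA
  have hθZ : ∀ g, a * g * a⁻¹ * g⁻¹ ∈ Subgroup.center G := (hUmem a).mp haU
  have hθmul : ∀ x y : G, a * (x * y) * a⁻¹ * (x * y)⁻¹ =
      (a * x * a⁻¹ * x⁻¹) * (a * y * a⁻¹ * y⁻¹) := fun x y => e5s_hmul a hθZ x y
  have hθinv : ∀ x : G, a * x⁻¹ * a⁻¹ * x⁻¹⁻¹ = (a * x * a⁻¹ * x⁻¹)⁻¹ :=
    fun x => e5s_hinv a hθZ x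
  have hZsq : ∀ x ∈ Subgroup.center G, x ^ 2 = 1 := by
    intro x hx
    have h1 : (⟨x, hx⟩ : Subgroup.center G) ^ Nat.card (Subgroup.center G) = 1 :=
      pow_card_eq_one'
    rw [hZ] at h1
    have h2 := congrArg Subtype.val h1
    rw [Subgroup.coe_pow] at h2
    exact h2
  have hZuniq : ∀ x ∈ Subgroup.center G, ∀ y ∈ Subgroup.center G, x ≠ 1 → y ≠ 1 → x = y := by
    intro x hx y hy hx1 hy1
    obtain ⟨w, hw, hwu⟩ := (Nat.card_eq_two_iff' (1 : Subgroup.center G)).mp hZ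
    have h1 := hwu ⟨x, hx⟩ (fun h => hx1 (congrArg Subtype.val h))
    have h2 := hwu ⟨y, hy⟩ (fun h => hy1 (congrArg Subtype.val h))
    exact congrArg Subtype.val (h1.trans h2.symm)
  -- `a ^ 2` is central
  have ha2Z : a ^ 2 ∈ Subgroup.center G := by
    rw [Subgroup.mem_center_iff]
    intro g
    have h1 := hθZ g
    have h2 := hZsq _ h1
    rw [pow_two] at h2
    have h3 : ∀ x : G, x * (a * g * a⁻¹ * g⁻¹) = (a * g * a⁻¹ * g⁻¹) * x :=
      fun x => Subgroup.mem_center_iff.mp h1 x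
    have h4 : a * g = (a * g * a⁻¹ * g⁻¹) * (g * a) := by group
    rw [pow_two]
    exact (e5s_sq_comm a g _ h3 h4 h2).symm
  have ha2ne : a ^ 2 ≠ 1 := by
    intro h
    apply hne
    symm
    apply Subgroup.eq_of_le_of_card_ge hZA
    have h1 : Nat.card A ≤ Nat.card (Subgroup.zpowers a) := Subgroup.card_le_of_le hAz
    have h2 : Nat.card (Subgroup.zpowers a) = orderOf a := Nat.card_zpowers a
    have h3 : orderOf a ≤ 2 := Nat.le_of_dvd (by norm_num) (orderOf_dvd_of_pow_eq_one h)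
    rw [hZ]
    omega
  have hord : orderOf a = 4 := by
    have h1 : ¬ a ^ 2 ^ 1 = 1 := by
      rw [pow_one]
      exact ha2ne
    have h2 : a ^ 2 ^ (1 + 1) = 1 := hexp4 a
    exact orderOf_eq_prime_pow h1 h2
  have hAeq : A = Subgroup.zpowers a :=
    le_antisymm hAz (by rw [Subgroup.zpowers_le]; exact haA)
  have hAcard : Nat.card A = 4 := by rw [hAeq, Nat.card_zpowers, hord]
  have hA2Z : ∀ x ∈ A, x ^ 2 = 1 → x ∈ Subgroup.center G := by
    intro x hx hx2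
    obtain ⟨k, rfl⟩ := Subgroup.mem_zpowers_iff.mp (hAz x hx)
    have h1 : a ^ (k * 2) = 1 := by
      rw [zpow_mul]
      exact_mod_cast hx2
    have h2 : (orderOf a : ℤ) ∣ k * 2 := orderOf_dvd_iff_zpow_eq_one.mpr h1
    rw [hord] at h2
    obtain ⟨m, hm⟩ : (2 : ℤ) ∣ k := by
      push_cast at h2
      omega
    rw [hm, zpow_mul]
    apply Subgroup.zpow_mem
    exact_mod_cast ha2Z
  -- the centraliser of `A`
  obtain ⟨C, hC⟩ : ∃ C : Subgroup G, C = Subgroup.centralizer (A : Set G) := ⟨_, rfl⟩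
  have hCchar : C.Characteristic := by
    haveI := hAchar
    rw [hC]
    infer_instance
  have hCnorm : C.Normal := Subgroup.normal_of_characteristic C
  have hCmem : ∀ g : G, g ∈ C ↔ a * g * a⁻¹ * g⁻¹ = 1 := by
    intro g
    rw [hC, Subgroup.mem_centralizer_iff]
    constructor
    · intro h
      have h1 := h a haA
      rw [h1]
      group
    · intro h x hx
      have hag : Commute a g := e5s_comm_of a g h
      obtain ⟨k, rfl⟩ := Subgroup.mem_zpowers_iff.mp (hAz x hx)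
      exact (hag.zpow_left k).eq
  have hCA : ∀ c ∈ C, ∀ x ∈ A, x * c = c * x := by
    intro c hc x hx
    rw [hC] at hc
    exact Subgroup.mem_centralizer_iff.mp hc x hx
  obtain ⟨g₀, hg₀⟩ : ∃ g₀ : G, g₀ ∉ C := by
    by_contra hall
    push_neg at hall
    apply hne
    have haZ : a ∈ Subgroup.center G := by
      rw [Subgroup.mem_center_iff]
      intro g
      exact (e5s_comm_of a g ((hCmem g).mp (hall g))).symm
    exact le_antisymm (by rw [hAeq, Subgroup.zpowers_le]; exact haZ) hZA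
  have hθ1 : ∀ g, g ∉ C → ∀ g', g' ∉ C →
      a * g * a⁻¹ * g⁻¹ = a * g' * a⁻¹ * g'⁻¹ := fun g hg g' hg' =>
    hZuniq _ (hθZ g) _ (hθZ g') (fun h => hg ((hCmem g).mpr h)) (fun h => hg' ((hCmem g').mpr h))
  have hcoset : ∀ g, g ∉ C → g₀⁻¹ * g ∈ C := by
    intro g hg
    rw [hCmem, hθmul, hθinv, hθ1 g hg g₀ hg₀, inv_mul_cancel]
  have hg₀sq : g₀ * g₀ ∈ C := by
    rw [hCmem, hθmul]
    have h1 := hZsq _ (hθZ g₀)
    rwa [pow_two] at h1
  have hCidx : C.index = 2 := by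
    rw [Subgroup.index_eq_two_iff]
    refine ⟨g₀⁻¹, fun b => ?_⟩
    by_cases hb : b ∈ C
    · right
      refine ⟨hb, fun h => hg₀ ?_⟩
      have h1 : g₀ = (b * g₀⁻¹)⁻¹ * b := by group
      rw [h1]
      exact C.mul_mem (C.inv_mem h) hb
    · left
      refine ⟨?_, hb⟩
      have h1 := hcoset b hb
      have h2 : b * g₀⁻¹ = b * (g₀⁻¹ * b) * b⁻¹ := by group
      rw [h2]
      exact hCnorm.conj_mem _ h1 b
  have hCcard : Nat.card C = 16 := by
    have h1 := Subgroup.card_mul_index C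
    rw [hCidx, hcard] at h1
    omega
  -- the centre of `C` is `A`
  have hAC : A ≤ C := by
    intro x hx
    rw [hC, Subgroup.mem_centralizer_iff]
    intro y hy
    exact (hAcent x hx y (hAU hy)).symm
  obtain ⟨ZC, hZC⟩ : ∃ ZC : Subgroup G, ZC = C ⊓ Subgroup.centralizer (C : Set G) := ⟨_, rfl⟩
  have hZCchar : ZC.Characteristic := by
    haveI := hCchar
    rw [hZC]
    infer_instance
  have hZCcomm : IsMulCommutative ZC := by
    refine ⟨⟨fun x y => ?_⟩⟩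
    apply Subtype.ext
    show (x : G) * (y : G) = (y : G) * (x : G)
    have hx : (x : G) ∈ C ⊓ Subgroup.centralizer (C : Set G) := by rw [← hZC]; exact x.2
    have hy : (y : G) ∈ C ⊓ Subgroup.centralizer (C : Set G) := by rw [← hZC]; exact y.2
    exact Subgroup.mem_centralizer_iff.mp hy.2 (x : G) hx.1
  have hZCcyc : IsCyclic ZC := hchar ZC hZCchar hZCcomm
  have hZCcard : Nat.card ZC ≤ 4 := by
    have h1 : Monoid.exponent ZC = Nat.card ZC := IsCyclic.exponent_eq_card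
    have h2 : Monoid.exponent ZC ∣ 4 := by
      apply Monoid.exponent_dvd_of_forall_pow_eq_one
      intro x
      apply Subtype.ext
      rw [Subgroup.coe_pow, hexp4]
      rfl
    rw [h1] at h2
    exact Nat.le_of_dvd (by norm_num) h2
  have hAZC : A ≤ ZC := by
    intro x hx
    rw [hZC]
    refine Subgroup.mem_inf.mpr ⟨hAC hx, ?_⟩
    rw [Subgroup.mem_centralizer_iff]
    intro c hc
    exact (hCA c hc x hx).symm
  have hZCA : ZC = A := (Subgroup.eq_of_le_of_card_ge hAZC (by rw [hAcard]; exact hZCcard)).symm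
  have hcenC : ∀ c ∈ C, (∀ y ∈ C, y * c = c * y) → c ∈ A := by
    intro c hc h
    rw [← hZCA, hZC]
    exact ⟨hc, Subgroup.mem_centralizer_iff.mpr h⟩
  -- squares of elements of `C` lie in `A`
  have hsqA : ∀ c ∈ C, c ^ 2 ∈ A := by
    intro c hc
    by_contra hcA
    haveI : A.Normal := Subgroup.normal_of_characteristic A
    obtain ⟨A', hA'⟩ : ∃ A' : Subgroup C, A' = A.subgroupOf C := ⟨_, rfl⟩
    haveI hA'n : A'.Normal := by
      rw [hA']
      infer_instance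
    have hA'card : Nat.card A' = 4 := by
      rw [hA', Nat.card_congr (Subgroup.subgroupOfEquivOfLe hAC).toEquiv, hAcard]
    have hQcard : Nat.card (C ⧸ A') = 4 := by
      have h1 := Subgroup.card_eq_card_quotient_mul_card_subgroup A'
      rw [hCcard, hA'card] at h1
      omega
    have hord' : orderOf (QuotientGroup.mk (⟨c, hc⟩ : C) : C ⧸ A') = 4 := by
      have h1 : ¬ (QuotientGroup.mk (⟨c, hc⟩ : C) : C ⧸ A') ^ 2 ^ 1 = 1 := by
        rw [pow_one, ← QuotientGroup.mk_pow, QuotientGroup.eq_one_iff, hA',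
          Subgroup.mem_subgroupOf]
        exact hcA
      have h2 : (QuotientGroup.mk (⟨c, hc⟩ : C) : C ⧸ A') ^ 2 ^ (1 + 1) = 1 := by
        rw [← QuotientGroup.mk_pow, QuotientGroup.eq_one_iff]
        have h3 : (⟨c, hc⟩ : C) ^ 2 ^ (1 + 1) = 1 := Subtype.ext (hexp4 c)
        rw [h3]
        exact A'.one_mem
      exact orderOf_eq_prime_pow h1 h2
    haveI : IsCyclic (C ⧸ A') := isCyclic_of_orderOf_eq_card _ (hord'.trans hQcard.symm)
    have hker : (QuotientGroup.mk' A').ker ≤ Subgroup.center C := by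
      rw [QuotientGroup.ker_mk']
      intro x hx
      rw [hA', Subgroup.mem_subgroupOf] at hx
      rw [Subgroup.mem_center_iff]
      intro y
      apply Subtype.ext
      exact (hCA y y.2 x hx).symm
    have hcomm := commutative_of_cyclic_center_quotient (QuotientGroup.mk' A') hker
    apply hcA
    apply Subgroup.pow_mem
    apply hcenC c hc
    intro y hy
    exact congrArg Subtype.val (hcomm ⟨y, hy⟩ ⟨c, hc⟩)
  have hsqZ : ∀ c ∈ C, c ^ 2 ∈ Subgroup.center G := by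
    intro c hc
    apply hA2Z _ (hsqA c hc)
    rw [← pow_mul]
    exact hexp4 c
  have hcomZ : ∀ c ∈ C, ∀ d ∈ C, c * d * c⁻¹ * d⁻¹ ∈ Subgroup.center G := by
    intro c hc d hd
    have h1 := hsqZ c hc
    have h2 := hsqZ d hd
    have h3 := hsqZ (c * d) (C.mul_mem hc hd)
    have hs := Subgroup.mem_center_iff.mp h1 d
    have hcomm : d * (c ^ 2)⁻¹ = (c ^ 2)⁻¹ * d := by
      calc d * (c ^ 2)⁻¹ = (c ^ 2)⁻¹ * (c ^ 2 * d) * (c ^ 2)⁻¹ := by group
        _ = (c ^ 2)⁻¹ * (d * c ^ 2) * (c ^ 2)⁻¹ := by rw [hs]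
        _ = (c ^ 2)⁻¹ * d := by group
    have h4 : c * d * c⁻¹ * d⁻¹ = (c * d) ^ 2 * (c ^ 2)⁻¹ * (d ^ 2)⁻¹ := by
      calc c * d * c⁻¹ * d⁻¹ = c * d * c * ((c ^ 2)⁻¹ * d) * (d ^ 2)⁻¹ := by group
        _ = c * d * c * (d * (c ^ 2)⁻¹) * (d ^ 2)⁻¹ := by rw [hcomm]
        _ = (c * d) ^ 2 * (c ^ 2)⁻¹ * (d ^ 2)⁻¹ := by simp only [pow_two]; group
    rw [h4]
    exact mul_mem (mul_mem h3 (inv_mem h1)) (inv_mem h2)
  -- elements of `C` that `g₀` centralises modulo the centre lie in `U`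
  have hinU : ∀ c ∈ C, g₀ * c * g₀⁻¹ * c⁻¹ ∈ Subgroup.center G → c ∈ U := by
    intro c hc hgc
    rw [hUmem]
    intro y
    by_cases hy : y ∈ C
    · exact hcomZ c hc y hy
    · have hy' := hcoset y hy
      have h1 : c * y * c⁻¹ * y⁻¹ = (g₀ * c * g₀⁻¹ * c⁻¹)⁻¹ *
          (g₀ * (c * (g₀⁻¹ * y) * c⁻¹ * (g₀⁻¹ * y)⁻¹) * g₀⁻¹) := by group
      rw [h1]
      exact mul_mem (inv_mem hgc)
        ((inferInstance : (Subgroup.center G).Normal).conj_mem _ (hcomZ c hc _ hy') g₀)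
  have hAtoZ : ∀ c ∈ C, g₀ * c * g₀⁻¹ * c⁻¹ ∈ A →
      g₀ * c * g₀⁻¹ * c⁻¹ ∈ Subgroup.center G := by
    intro c hc hα
    apply hA2Z _ hα
    obtain ⟨α, hαdef⟩ : ∃ α : G, α = g₀ * c * g₀⁻¹ * c⁻¹ := ⟨_, rfl⟩
    rw [← hαdef] at hα ⊢
    have h1 : g₀ * c * g₀⁻¹ = α * c := by rw [hαdef]; group
    have h2 : α * c = c * α := hCA c hc α hα
    have h3 : (g₀ * c * g₀⁻¹) ^ 2 = c ^ 2 := by
      have hz := Subgroup.mem_center_iff.mp (hsqZ c hc) g₀
      calc (g₀ * c * g₀⁻¹) ^ 2 = (g₀ * c ^ 2) * g₀⁻¹ := by simp only [pow_two]; group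
        _ = c ^ 2 * g₀ * g₀⁻¹ := by rw [hz]
        _ = c ^ 2 := by group
    have h4 : (α * c) ^ 2 = α ^ 2 * c ^ 2 := by
      rw [pow_two, pow_two, pow_two]
      calc α * c * (α * c) = α * (c * α) * c := by group
        _ = α * (α * c) * c := by rw [h2]
        _ = α * α * (c * c) := by group
    rw [h1, h4] at h3
    have h5 : α ^ 2 * c ^ 2 = 1 * c ^ 2 := by rw [h3, one_mul]
    exact mul_right_cancel h5
  have hdouble : ∀ c ∈ C, g₀ * (g₀ * c * g₀⁻¹ * c⁻¹) * g₀⁻¹ * (g₀ * c * g₀⁻¹ * c⁻¹)⁻¹ ∈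
      Subgroup.center G := by
    intro c hc
    have hd : g₀ * c * g₀⁻¹ ∈ C := hCnorm.conj_mem c hc g₀
    have h1 := hcomZ (g₀ * g₀) hg₀sq c hc
    have h2 := hsqZ (c * (g₀ * c * g₀⁻¹)⁻¹) (C.mul_mem hc (C.inv_mem hd))
    have h3 : g₀ * (g₀ * c * g₀⁻¹ * c⁻¹) * g₀⁻¹ * (g₀ * c * g₀⁻¹ * c⁻¹)⁻¹ =
        (g₀ * g₀ * c * (g₀ * g₀)⁻¹ * c⁻¹) * (c * (g₀ * c * g₀⁻¹)⁻¹) ^ 2 := by
      simp only [pow_two]
      group
    rw [h3]
    exact mul_mem h1 h2
  obtain ⟨c₀, hc₀C, hc₀A⟩ : ∃ c₀ ∈ C, c₀ ∉ A := by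
    by_contra hall
    push_neg at hall
    have h1 : C ≤ A := hall
    have h2 := Subgroup.card_le_of_le h1
    omega
  obtain ⟨c, hcC, hcA, hcU⟩ : ∃ c ∈ C, c ∉ A ∧ c ∈ U := by
    by_cases h : g₀ * c₀ * g₀⁻¹ * c₀⁻¹ ∈ A
    · exact ⟨c₀, hc₀C, hc₀A, hinU c₀ hc₀C (hAtoZ c₀ hc₀C h)⟩
    · have hmem : g₀ * c₀ * g₀⁻¹ * c₀⁻¹ ∈ C :=
        C.mul_mem (hCnorm.conj_mem c₀ hc₀C g₀) (C.inv_mem hc₀C)
      exact ⟨g₀ * c₀ * g₀⁻¹ * c₀⁻¹, hmem, h, hinU _ hmem (hdouble c₀ hc₀C)⟩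
  -- `U` is contained in `C` and is all of `C`
  have hUC : U ≤ C := by
    intro u hu
    rw [hC, Subgroup.mem_centralizer_iff]
    intro x hx
    exact hAcent x hx u hu
  obtain ⟨u, huU, hcu⟩ : ∃ u ∈ U, u * c ≠ c * u := by
    by_contra hall
    push_neg at hall
    apply hcA
    rw [hA]
    exact ⟨hcU, Subgroup.mem_centralizer_iff.mpr hall⟩
  obtain ⟨B, hB⟩ : ∃ B : Subgroup G, B = U ⊓ Subgroup.centralizer ({c} : Set G) := ⟨_, rfl⟩
  have hAB : A ≤ B := by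
    intro x hx
    rw [hB]
    refine Subgroup.mem_inf.mpr ⟨hAU hx, ?_⟩
    rw [Subgroup.mem_centralizer_singleton_iff]
    exact hAcent x hx c hcU
  have hcB : c ∈ B := by
    rw [hB]
    exact ⟨hcU, Subgroup.mem_centralizer_singleton_iff.mpr rfl⟩
  have hBU : B ≤ U := by
    rw [hB]
    exact inf_le_left
  have huB : u ∉ B := by
    intro h
    rw [hB] at h
    exact hcu (Subgroup.mem_centralizer_singleton_iff.mp h.2)
  have h1 : Nat.card A ∣ Nat.card B := Subgroup.card_dvd_of_le hAB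
  have h2 : Nat.card B ∣ Nat.card U := Subgroup.card_dvd_of_le hBU
  have h3 : Nat.card U ∣ Nat.card C := Subgroup.card_dvd_of_le hUC
  have h4 : Nat.card B ≠ 4 := by
    intro h
    have h5 := Subgroup.eq_of_le_of_card_ge hAB (by rw [hAcard, h])
    apply hcA
    rw [h5]
    exact hcB
  have h5 : Nat.card B ≠ Nat.card U := by
    intro h
    have h6 := Subgroup.eq_of_le_of_card_ge hBU (by rw [h])
    apply huB
    rw [h6]
    exact huU
  rw [hAcard] at h1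
  rw [hCcard] at h3
  have hUcard : Nat.card U = 16 := e5s_arith _ _ h1 h2 h3 h4 h5
  have hUeqC : U = C := Subgroup.eq_of_le_of_card_ge hUC (by rw [hUcard, hCcard])
  apply hg₀
  apply hUC
  rw [hUmem]
  intro y
  by_cases hy : y ∈ C
  · have hyU : y ∈ U := by rw [hUeqC]; exact hy
    have h6 := (hUmem y).mp hyU g₀
    have e : g₀ * y * g₀⁻¹ * y⁻¹ = (y * g₀ * y⁻¹ * g₀⁻¹)⁻¹ := by group
    rw [e]
    exact inv_mem h6
  · have hy' := hcoset y hy
    have hyU : g₀⁻¹ * y ∈ U := by rw [hUeqC]; exact hy'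
    have h6 := (hUmem _).mp hyU g₀
    have e : g₀ * y * g₀⁻¹ * y⁻¹ =
        g₀ * ((g₀⁻¹ * y) * g₀ * (g₀⁻¹ * y)⁻¹ * g₀⁻¹)⁻¹ * g₀⁻¹ := by group
    rw [e]
    exact (inferInstance : (Subgroup.center G).Normal).conj_mem _ (inv_mem h6) g₀

/-- STRUCT2 (CALL S6002) -/
theorem e5_struct {G : Type*} [Group G] [Finite G] (hp : IsPGroup 2 G)
    (hexp : Monoid.exponent G = 4) (hcard : Nat.card G = 32)
    (hZ : Nat.card (Subgroup.center G) = 2)
    (hchar : ∀ A : Subgroup G, A.Characteristic → IsMulCommutative A → IsCyclic A) (g h : G) :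
    g ^ 2 ∈ Subgroup.center G ∧ g * h * g⁻¹ * h⁻¹ ∈ Subgroup.center G := by
  have hZsq : ∀ x ∈ Subgroup.center G, x ^ 2 = 1 := by
    intro x hx
    have h1 : (⟨x, hx⟩ : Subgroup.center G) ^ Nat.card (Subgroup.center G) = 1 :=
      pow_card_eq_one'
    rw [hZ] at h1
    have h2 := congrArg Subtype.val h1
    rw [Subgroup.coe_pow] at h2
    exact h2
  exact e5s_of_AZ hp hZsq (e5s_AZ hexp hcard hZ hchar) g h

end Cfsg.Agent.Helper55
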