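import Mathlib

set_option autoImplicit false

namespace Cfsg.Agent.Helper55

universe u

variable {G : Type u} [Group G] [Finite G] {p : ℕ} [Fact p.Prime]

/-- F2: (from the conclusion of MIN1) with abelian Sylows, the intersection of two distinct
Sylow `p`-subgroups is central. -/
theorem ftb_F2
    (hmin1 : ∀ K : Subgroup G, K ≠ ⊤ → ∀ P₁ P₂ : Sylow p G,
      (P₁ : Subgroup G) ≤ K → (P₂ : Subgroup G) ≤ K → P₁ = P₂)
    (hab : ∀ P : Sylow p G, ∀ a ∈ (P : Subgroup G), ∀ b ∈ (P : Subgroup G), a * b = b * a)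
    (P₁ P₂ : Sylow p G) (hne : P₁ ≠ P₂) (x : G)
    (h1 : x ∈ (P₁ : Subgroup G)) (h2 : x ∈ (P₂ : Subgroup G)) : x ∈ Subgroup.center G := by
  have hK : Subgroup.centralizer ({x} : Set G) = ⊤ := by
    by_contra hK
    apply hne
    apply hmin1 _ hK P₁ P₂
    · intro a ha
      rw [Subgroup.mem_centralizer_singleton_iff]
      exact hab P₁ a ha x h1
    · intro a ha
      rw [Subgroup.mem_centralizer_singleton_iff]
      exact hab P₂ a ha x h2
  rw [Subgroup.mem_center_iff]
  intro g
  have hg : g ∈ Subgroup.centralizer ({x} : Set G) := by rw [hK]; trivial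
  rw [Subgroup.mem_centralizer_singleton_iff] at hg
  exact hg

end Cfsg.Agent.Helper55
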