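import Mathlib

set_option autoImplicit false

namespace Cfsg.Agent.Helper55

universe u

variable {G : Type u} [Group G] [Finite G] {p : ℕ} [Fact p.Prime]

/-- F3: (from the conclusion of MIN1) a non-normal Sylow `p`-subgroup lies in no proper
normal subgroup. -/
theorem ftb_F3
    (hmin1 : ∀ K : Subgroup G, K ≠ ⊤ → ∀ P₁ P₂ : Sylow p G,
      (P₁ : Subgroup G) ≤ K → (P₂ : Subgroup G) ≤ K → P₁ = P₂)
    (P : Sylow p G) (hP : ¬ (P : Subgroup G).Normal)
    (M : Subgroup G) (hM : M.Normal) (hPM : (P : Subgroup G) ≤ M) : M = ⊤ := by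
  by_contra hM'
  apply hP
  rw [← Subgroup.normalizer_eq_top_iff]
  rw [eq_top_iff]
  intro g _
  apply Sylow.smul_eq_iff_mem_normalizer.mp
  apply hmin1 M hM' (g • P) P _ hPM
  intro y hy
  rw [Sylow.coe_subgroup_smul, Subgroup.mem_pointwise_smul_iff_inv_smul_mem] at hy
  have h1 : g⁻¹ * y * g ∈ M := by
    have := hPM hy
    simpa [MulAut.smul_def] using this
  have h2 := hM.conj_mem _ h1 g
  have h3 : g * (g⁻¹ * y * g) * g⁻¹ = y := by group
  rwa [h3] at h2

end Cfsg.Agent.Helper55
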