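import Mathlib
import Cfsg.Agent.Helper90.IMDefs

/-! PIECE N1 of CALL S5958 (helper90): if `T` (of prime order `r`) moves a summand of a
decomposition into `a`-dimensional subspaces, then `a ≤ dim ker (T - 1)`. -/

set_option autoImplicit false

namespace Cfsg.Agent.Helper55

open Module Polynomial Cfsg.Agent.Helper90.IM

variable {F : Type*} [Field F] {V : Type*} [AddCommGroup V] [Module F V] [FiniteDimensional F V]

theorem fix_ge_of_moved (T : V →ₗ[F] V) (r : ℕ) (hr : r.Prime) (hT : T ^ r = 1) {t a : ℕ}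
    (D : Fin t → Submodule F V) (σ : Equiv.Perm (Fin t)) (hD : IsDec T a D σ) (j : Fin t)
    (hj : σ j ≠ j) : a ≤ finrank F (LinearMap.ker (T - 1)) := by
  obtain ⟨hrank, hind, hsup, hmap⟩ := hD
  rcases Nat.eq_zero_or_pos a with ha | ha
  · rw [ha]; exact Nat.zero_le _
  have hpow : ∀ i : ℕ, (D j).map (T ^ i) = D ((σ ^ i) j) := by
    intro i
    induction i with
    | zero =>
      rw [pow_zero, pow_zero, Module.End.one_eq_id, Submodule.map_id, Equiv.Perm.one_apply]
    | succ i ih =>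
      rw [pow_succ', Module.End.mul_eq_comp, Submodule.map_comp, ih, hmap, pow_succ',
        Equiv.Perm.mul_apply]
  have hDinj : ∀ k, D k = D j → k = j := by
    intro k hk
    by_contra hne
    have h1 : D j ≤ ⨆ k', ⨆ (_ : k' ≠ j), D k' := by
      rw [← hk]; exact le_iSup₂ (f := fun k' (_ : k' ≠ j) => D k') k hne
    have h2 : D j = ⊥ := (hind j).eq_bot_of_le h1
    have h3 := hrank j
    rw [h2, finrank_bot] at h3
    omega
  have hσr : (σ ^ r) j = j := by
    apply hDinj
    rw [← hpow r, hT, Module.End.one_eq_id, Submodule.map_id]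
  have hne : ∀ i, 0 < i → i < r → (σ ^ i) j ≠ j := by
    intro i hi0 hir hfix
    have hcop : Nat.Coprime i r :=
      Nat.Coprime.symm ((Nat.Prime.coprime_iff_not_dvd hr).mpr (Nat.not_dvd_of_pos_of_lt hi0 hir))
    obtain ⟨m, hm⟩ := Nat.exists_mul_mod_eq_one_of_coprime hcop hr.one_lt
    have h1 : (σ ^ (i * m)) j = j := by
      rw [pow_mul]; exact Equiv.Perm.pow_apply_eq_self_of_apply_eq_self hfix m
    have h2 : i * m = r * (i * m / r) + 1 := by
      have h3 := Nat.div_add_mod (i * m) r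
      omega
    rw [h2, pow_succ', Equiv.Perm.mul_apply, pow_mul,
      Equiv.Perm.pow_apply_eq_self_of_apply_eq_self hσr] at h1
    exact hj h1
  obtain ⟨S, hS⟩ : ∃ S : Module.End F V, S = ∑ i ∈ Finset.range r, T ^ i := ⟨_, rfl⟩
  have hSker : ∀ v, S v ∈ LinearMap.ker (T - 1) := by
    intro v
    rw [LinearMap.mem_ker, ← Module.End.mul_apply, hS, mul_geom_sum, hT, sub_self,
      LinearMap.zero_apply]
  have hSinj : ∀ v ∈ D j, S v = 0 → v = 0 := by
    intro v hv hSv
    have h1 : S v = v + ∑ i ∈ Finset.Ico 1 r, (T ^ i) v := by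
      rw [hS, LinearMap.sum_apply, Finset.range_eq_Ico, Finset.sum_eq_sum_Ico_succ_bot hr.pos,
        pow_zero, Module.End.one_apply]
    have h2 : ∑ i ∈ Finset.Ico 1 r, (T ^ i) v ∈ ⨆ k, ⨆ (_ : k ≠ j), D k := by
      apply Submodule.sum_mem
      intro i hi
      rw [Finset.mem_Ico] at hi
      have h3 : (T ^ i) v ∈ D ((σ ^ i) j) := by
        rw [← hpow i]; exact Submodule.mem_map_of_mem hv
      exact (le_iSup₂ (f := fun k (_ : k ≠ j) => D k) ((σ ^ i) j)
        (hne i (by omega) hi.2)) h3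
    have h4 : v ∈ ⨆ k, ⨆ (_ : k ≠ j), D k := by
      have h5 : v = -∑ i ∈ Finset.Ico 1 r, (T ^ i) v := by
        rw [h1] at hSv
        exact eq_neg_of_add_eq_zero_left hSv
      rw [h5]; exact Submodule.neg_mem _ h2
    exact Submodule.disjoint_def.mp (hind j) v hv h4
  let φ : ↥(D j) →ₗ[F] ↥(LinearMap.ker (T - 1)) :=
    LinearMap.codRestrict (LinearMap.ker (T - 1)) (S ∘ₗ (D j).subtype) (fun v => hSker v)
  have hφ : Function.Injective φ := by
    rw [← LinearMap.ker_eq_bot, LinearMap.ker_eq_bot']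
    intro v hv
    have h1 : S (v : V) = 0 := congrArg Subtype.val hv
    exact Subtype.ext (hSinj v v.2 h1)
  have h6 := LinearMap.finrank_le_finrank_of_injective hφ
  rw [hrank j] at h6
  exact h6

end Cfsg.Agent.Helper55
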