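import Mathlib
import Cfsg.Agent.Helper55.KulEAux
import Cfsg.Agent.Helper14.KulB
import Cfsg.Agent.Helper73.KulC

/-!
# Piece E of CALL S4648 (helper77): generation over the centre

`kul_gen`: a symmetric algebra `A` whose centre has dimension at most 4, with `A / J = M_n(k)`
(`J` nilpotent) and matrix-unit data `ε, aᵢ, bᵢ`, is generated over its centre by the `n ^ 2`
elements `aᵢ ε bⱼ`.
-/

set_option autoImplicit false

namespace Cfsg.Agent.Helper55

universe u v

variable {k : Type v} [Field k] {A : Type u} [Ring A] [Algebra k A]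

/-- PIECE E of CALL S4648: generation over the centre. -/
theorem kul_gen [FiniteDimensional k A] (lam : A →ₗ[k] k)
    (hsym : ∀ x y, lam (x * y) = lam (y * x))
    (hnd : ∀ x, (∀ y, lam (x * y) = 0) → x = 0)
    (hZ : ∀ v : Fin 5 → A, (∀ i a, v i * a = a * v i) → ¬ LinearIndependent k v)
    (n : ℕ) (hn : 0 < n) (g : A →ₐ[k] Matrix (Fin n) (Fin n) k)
    (N : ℕ) (hN : ∀ l : List A, l.length = N → (∀ x ∈ l, g x = 0) → l.prod = 0)
    (ε : A) (a b : Fin n → A) (hε : ε * ε = ε)
    (hgε : g ε = Matrix.single (⟨0, hn⟩ : Fin n) (⟨0, hn⟩ : Fin n) (1 : k))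
    (hab : ∑ i, a i * ε * b i = 1) (x : A) :
    ∃ z : Fin n × Fin n → A, (∀ i y, z i * y = y * z i) ∧
      x = ∑ i : Fin n × Fin n, z i * (a i.1 * ε * b i.2) := by
  obtain ⟨C, _, _, _, φ, hinj, hmul, hone, hrange⟩ :=
    Cfsg.Agent.Helper73.kul_corner (k := k) ε hε
  exact kulE_gen_of_comm ε a b hε hab
    (kulE_corner_comm lam hsym hnd hZ n hn g N hN ε a b hε hgε hab C φ hinj hmul hone hrange
      (fun lam' h1 h2 π N' h3 h4 =>
        Cfsg.Agent.Helper14.kul_local_comm lam' h1 h2 π N' h3 h4)) x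

end Cfsg.Agent.Helper55
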