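import Mathlib

/-!
CALL LM (helper21, S4067), piece ETO: `lm_eto` (transvection automorphism, `p` odd).
-/

set_option autoImplicit false

namespace Cfsg.Agent.Helper55.LM

/-- `c ↦ y ^ c.val` as a homomorphism from `Multiplicative (ZMod p)` when `y ^ p = 1`. -/
def zp {G : Type*} [Group G] (p : ℕ) [NeZero p] (y : G) (hy : y ^ p = 1) :
    Multiplicative (ZMod p) →* G where
  toFun c := y ^ (Multiplicative.toAdd c).val
  map_one' := by simp
  map_mul' c d := by
    rw [← pow_add]
    show y ^ (Multiplicative.toAdd c + Multiplicative.toAdd d).val = _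
    rw [ZMod.val_add, ← pow_eq_pow_mod _ hy]

theorem zp_apply {G : Type*} [Group G] (p : ℕ) [NeZero p] (y : G) (hy : y ^ p = 1) (c : ZMod p) :
    zp p y hy (Multiplicative.ofAdd c) = y ^ c.val := rfl

theorem lm_eto_c {p : ℕ} [Fact p.Prime] (hp2 : p ≠ 2) (a b : ZMod p) :
    -((a + b) * ((a + b) - 1)) / 2 = -(a * (a - 1)) / 2 + -(b * (b - 1)) / 2 - a * b := by
  have h2 : (2 : ZMod p) ≠ 0 := by
    intro h
    have h' : ((2 : ℕ) : ZMod p) = 0 := by exact_mod_cast h
    rw [ZMod.natCast_eq_zero_iff] at h'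
    have hpp : p.Prime := Fact.out
    have := Nat.le_of_dvd (by norm_num) h'
    have := hpp.two_le
    omega
  field_simp
  ring

theorem lm_eto_aux {G : Type*} [Group G] [Finite G] (p : ℕ) [hp : Fact p.Prime] (hp2 : p ≠ 2)
    (hZ : commutator G ≤ Subgroup.center G) (hc : Nat.card (commutator G) = p)
    (x : G) (hxZ : x ∉ Subgroup.center G) (hxp : x ^ p = 1) :
    ∃ σ : MulAut G, ∃ M : Subgroup G, M.index = p ∧ Subgroup.center G ≤ M ∧
      ∀ g : G, g ∉ M → ¬ IsConj g (σ g) := by
  classical
  have hpp : p.Prime := hp.out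
  haveI : NeZero p := ⟨hpp.ne_zero⟩
  have hcc : ∀ g : G, g * x * g⁻¹ * x⁻¹ ∈ commutator G := by
    intro g
    rw [commutator_def]
    have := Subgroup.commutator_mem_commutator (Subgroup.mem_top g) (Subgroup.mem_top x)
    simpa [commutatorElement_def] using this
  have hcz : ∀ g : G, g * x * g⁻¹ * x⁻¹ ∈ Subgroup.center G := fun g => hZ (hcc g)
  have hcen : ∀ (z : G), z ∈ Subgroup.center G → ∀ y : G, y * z = z * y :=
    fun z hz y => Subgroup.mem_center_iff.1 hz y
  let f : G →* G :=
    { toFun := fun g => g * x * g⁻¹ * x⁻¹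
      map_one' := by simp
      map_mul' := by
        intro g h
        have h1 := hcen _ (hcz h) g
        have h2 := hcen _ (hcz h) (g * x * g⁻¹ * x⁻¹)
        calc g * h * x * (g * h)⁻¹ * x⁻¹
            = g * (h * x * h⁻¹ * x⁻¹) * (x * g⁻¹ * x⁻¹) := by group
          _ = (h * x * h⁻¹ * x⁻¹) * g * (x * g⁻¹ * x⁻¹) := by rw [h1]
          _ = (h * x * h⁻¹ * x⁻¹) * (g * x * g⁻¹ * x⁻¹) := by group
          _ = (g * x * g⁻¹ * x⁻¹) * (h * x * h⁻¹ * x⁻¹) := h2.symm }
  have hf : ∀ g, f g = g * x * g⁻¹ * x⁻¹ := fun g => rfl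
  have hfc : ∀ z, z ∈ Subgroup.center G → f z = 1 := by
    intro z hz
    have h1 : z * x = x * z := (hcen z hz x).symm
    rw [hf, h1]
    group
  have hfx : ∀ n : ℕ, f (x ^ n) = 1 := by
    intro n
    rw [hf]
    group
  obtain ⟨a, ha⟩ : ∃ a : G, f a ≠ 1 := by
    by_contra hcon
    push_neg at hcon
    apply hxZ
    rw [Subgroup.mem_center_iff]
    intro g
    have h1 := hcon g
    rw [hf] at h1
    calc g * x = (g * x * g⁻¹ * x⁻¹) * (x * g) := by group
      _ = x * g := by rw [h1, one_mul]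
  set w := f a with hw
  have hwc : w ∈ commutator G := hcc a
  have hwp : w ^ p = 1 := by
    have h1 : (⟨w, hwc⟩ : ↥(commutator G)) ^ Nat.card ↥(commutator G) = 1 := pow_card_eq_one'
    rw [hc] at h1
    simpa using congrArg Subtype.val h1
  have how : orderOf w = p := by
    rcases (Nat.dvd_prime hpp).1 (orderOf_dvd_of_pow_eq_one hwp) with h | h
    · exact absurd (orderOf_eq_one_iff.1 h) ha
    · exact h
  have hzw : Subgroup.zpowers w = commutator G := by
    apply Subgroup.eq_of_le_of_card_ge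
    · rw [Subgroup.zpowers_le]; exact hwc
    · rw [Nat.card_zpowers, how, hc]
  have hWc : ∀ c, zp p w hwp c ∈ Subgroup.center G := by
    intro c
    apply hZ
    exact (commutator G).pow_mem hwc _
  have key1 : ∀ g : G, ∃ c : ZMod p, f g = zp p w hwp (Multiplicative.ofAdd c) := by
    intro g
    have hg : f g ∈ Subgroup.zpowers w := by rw [hzw]; exact hcc g
    obtain ⟨k, hk⟩ := Subgroup.mem_zpowers_iff.1 hg
    refine ⟨(k : ZMod p), ?_⟩
    rw [zp_apply, ← hk, ← zpow_natCast, zpow_eq_zpow_iff_modEq, how, ZMod.val_intCast]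
    exact (Int.mod_modEq k p).symm
  choose i hi using key1
  have hWinj : ∀ c d : ZMod p,
      zp p w hwp (Multiplicative.ofAdd c) = zp p w hwp (Multiplicative.ofAdd d) → c = d := by
    intro c d h
    rw [zp_apply, zp_apply, pow_eq_pow_iff_modEq, how] at h
    apply ZMod.val_injective p
    have h1 := Nat.mod_eq_of_lt (ZMod.val_lt c)
    have h2 := Nat.mod_eq_of_lt (ZMod.val_lt d)
    unfold Nat.ModEq at h
    omega
  have hiadd : ∀ g h, i (g * h) = i g + i h := by
    intro g h
    apply hWinj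
    rw [← hi, map_mul, hi g, hi h, ofAdd_add, map_mul]
  have hi0 : ∀ g, i g = 0 ↔ f g = 1 := by
    intro g
    constructor
    · intro h
      rw [hi, h]
      simp
    · intro h
      apply hWinj
      rw [← hi, h]
      simp
  -- commutation rule
  have hxh : ∀ (n : ℕ) (h : G), x ^ n * h = ((f h) ^ n)⁻¹ * (h * x ^ n) := by
    intro n h
    have hcm : Commute (f h) x := (hcen _ (hcz h) x).symm
    have e : h * x ^ n * h⁻¹ = (f h) ^ n * x ^ n := by
      rw [← conj_pow, ← hcm.mul_pow]
      congr 1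
      rw [hf]
      group
    calc x ^ n * h = ((f h) ^ n)⁻¹ * ((f h) ^ n * x ^ n) * h := by group
      _ = ((f h) ^ n)⁻¹ * (h * x ^ n * h⁻¹) * h := by rw [e]
      _ = ((f h) ^ n)⁻¹ * (h * x ^ n) := by group
  -- the automorphism
  let cc : ZMod p → ZMod p := fun j => -(j * (j - 1)) / 2
  let τ : G → G := fun g =>
    zp p x hxp (Multiplicative.ofAdd (i g)) * zp p w hwp (Multiplicative.ofAdd (cc (i g)))
  have hτ : ∀ g, τ g =
      zp p x hxp (Multiplicative.ofAdd (i g)) * zp p w hwp (Multiplicative.ofAdd (cc (i g))) :=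
    fun g => rfl
  have hmul : ∀ g h : G, g * h * τ (g * h) = (g * τ g) * (h * τ h) := by
    intro g h
    have hu := hWc (Multiplicative.ofAdd (cc (i g)))
    have hv := hWc (Multiplicative.ofAdd (cc (i h)))
    have ht := hWc (Multiplicative.ofAdd (i g * i h))
    have hAh : zp p x hxp (Multiplicative.ofAdd (i g)) * h =
        (zp p w hwp (Multiplicative.ofAdd (i g * i h)))⁻¹ *
          (h * zp p x hxp (Multiplicative.ofAdd (i g))) := by
      rw [zp_apply, hxh, hi h, ← map_pow]
      congr 3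
      rw [← ofAdd_nsmul, nsmul_eq_mul, ZMod.natCast_zmod_val]
    have hcid : cc (i g + i h) = cc (i g) + cc (i h) - i g * i h := lm_eto_c hp2 (i g) (i h)
    have hτgh : τ (g * h) =
        zp p x hxp (Multiplicative.ofAdd (i g)) * zp p x hxp (Multiplicative.ofAdd (i h)) *
          (zp p w hwp (Multiplicative.ofAdd (cc (i g))) *
            zp p w hwp (Multiplicative.ofAdd (cc (i h))) *
            (zp p w hwp (Multiplicative.ofAdd (i g * i h)))⁻¹) := by
      rw [hτ, hiadd, hcid, ofAdd_add, map_mul, ofAdd_sub, ofAdd_add, map_div, map_mul,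
        div_eq_mul_inv]
    rw [hτgh, hτ g, hτ h]
    set A := zp p x hxp (Multiplicative.ofAdd (i g)) with hA
    set B := zp p x hxp (Multiplicative.ofAdd (i h)) with hB
    set u := zp p w hwp (Multiplicative.ofAdd (cc (i g))) with hu'
    set v := zp p w hwp (Multiplicative.ofAdd (cc (i h))) with hv'
    set t := zp p w hwp (Multiplicative.ofAdd (i g * i h)) with ht'
    have htinv : t⁻¹ ∈ Subgroup.center G := (Subgroup.center G).inv_mem ht
    symm
    calc g * (A * u) * (h * (B * v)) = g * A * (u * (h * (B * v))) := by group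
      _ = g * A * ((h * (B * v)) * u) := by rw [hcen u hu (h * (B * v))]
      _ = g * (A * h) * B * v * u := by group
      _ = g * (t⁻¹ * (h * A)) * B * v * u := by rw [hAh]
      _ = g * ((h * A) * t⁻¹) * B * v * u := by rw [hcen t⁻¹ htinv (h * A)]
      _ = g * h * A * (t⁻¹ * (B * v * u)) := by group
      _ = g * h * A * ((B * v * u) * t⁻¹) := by rw [hcen t⁻¹ htinv (B * v * u)]
      _ = g * h * A * B * (v * u) * t⁻¹ := by group
      _ = g * h * A * B * (u * v) * t⁻¹ := by rw [hcen u hu v]
      _ = g * h * (A * B * (u * v * t⁻¹)) := by group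
  let σ₀ : G →* G :=
    { toFun := fun g => g * τ g
      map_one' := by
        have h0 : i 1 = 0 := (hi0 1).2 (map_one f)
        show 1 * τ 1 = 1
        rw [hτ, h0]
        simp [cc]
      map_mul' := hmul }
  have hσ₀ : ∀ g, σ₀ g = g * τ g := fun g => rfl
  have hfτ : ∀ g, f (τ g) = 1 := by
    intro g
    rw [hτ, map_mul, zp_apply, hfx, one_mul]
    exact hfc _ (hWc _)
  have hinj : Function.Injective σ₀ := by
    rw [injective_iff_map_eq_one]
    intro g hg
    have h1 : f g = 1 := by
      have := congrArg f hg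
      rw [hσ₀, map_mul, hfτ, mul_one, map_one] at this
      exact this
    have h0 : i g = 0 := (hi0 g).2 h1
    have hτ1 : τ g = 1 := by
      rw [hτ, h0]
      simp [cc]
    rw [hσ₀, hτ1, mul_one] at hg
    exact hg
  let σ : MulAut G := MulEquiv.ofBijective σ₀ ⟨hinj, Finite.surjective_of_injective hinj⟩
  have hσ : ∀ g, σ g = g * τ g := fun g => rfl
  refine ⟨σ, f.ker, ?_, ?_, ?_⟩
  · rw [Subgroup.index_ker]
    have hle : f.range ≤ commutator G := by
      rintro y ⟨g, rfl⟩
      exact hcc g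
    have hdvd : Nat.card f.range ∣ p := by
      rw [← hc]
      exact Subgroup.card_dvd_of_le hle
    rcases (Nat.dvd_prime hpp).1 hdvd with h | h
    · exfalso
      have hbot : f.range = ⊥ := Subgroup.card_eq_one.1 h
      have hwr : w ∈ f.range := ⟨a, rfl⟩
      rw [hbot, Subgroup.mem_bot] at hwr
      exact ha hwr
    · exact h
  · intro z hz
    rw [MonoidHom.mem_ker]
    exact hfc z hz
  · intro g hg hconj
    rw [MonoidHom.mem_ker] at hg
    have hig : i g ≠ 0 := fun h => hg ((hi0 g).1 h)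
    obtain ⟨c, hc'⟩ := isConj_iff.1 hconj
    rw [hσ] at hc'
    have hτc : τ g ∈ Subgroup.center G := by
      apply hZ
      have h1 : τ g = g⁻¹ * c * g⁻¹⁻¹ * c⁻¹ := by
        calc τ g = g⁻¹ * (g * τ g) := by group
          _ = g⁻¹ * (c * g * c⁻¹) := by rw [hc']
          _ = g⁻¹ * c * g⁻¹⁻¹ * c⁻¹ := by group
      rw [h1, commutator_def]
      have := Subgroup.commutator_mem_commutator (Subgroup.mem_top g⁻¹) (Subgroup.mem_top c)
      simpa [commutatorElement_def] using this
    have hXc : x ^ (i g).val ∈ Subgroup.center G := by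
      have h1 : x ^ (i g).val =
          τ g * (zp p w hwp (Multiplicative.ofAdd (cc (i g))))⁻¹ := by
        rw [hτ, zp_apply]
        group
      rw [h1]
      exact (Subgroup.center G).mul_mem hτc ((Subgroup.center G).inv_mem (hWc _))
    apply hxZ
    have h2 : x = (x ^ (i g).val) ^ ((i g)⁻¹).val := by
      rw [← pow_mul, pow_eq_pow_mod _ hxp, ← ZMod.val_mul, mul_inv_cancel₀ hig,
        ZMod.val_one_eq_one_mod, Nat.mod_eq_of_lt hpp.one_lt, pow_one]
    rw [h2]
    exact (Subgroup.center G).pow_mem hXc _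

/-- ETO: `p` odd, a non-central element of order `p` gives a transvection automorphism. -/
theorem lm_eto {G : Type*} [Group G] [Finite G] (hZ : commutator G ≤ Subgroup.center G)
    (hc : Nat.card (commutator G) = (Nat.card G).minFac) (hodd : (Nat.card G).minFac ≠ 2)
    (x : G) (hxZ : x ∉ Subgroup.center G) (hxp : x ^ (Nat.card G).minFac = 1) :
    ∃ σ : MulAut G, ∃ M : Subgroup G, M.index = (Nat.card G).minFac ∧ Subgroup.center G ≤ M ∧
      ∀ g : G, g ∉ M → ¬ IsConj g (σ g) := by
  have h1 : Nat.card G ≠ 1 := by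
    intro h
    haveI : Subsingleton G := (Nat.card_eq_one_iff_unique.1 h).1
    apply hxZ
    rw [Subsingleton.elim x 1]
    exact Subgroup.one_mem _
  haveI : Fact (Nat.card G).minFac.Prime := ⟨Nat.minFac_prime h1⟩
  exact lm_eto_aux _ hodd hZ hc x hxZ hxp

end Cfsg.Agent.Helper55.LM
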