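import Cfsg.Agent.Helper63.N14Defs

set_option autoImplicit false

namespace Cfsg.Agent.Helper55.N14

open Cfsg.Agent.Helper63.N14

/-- D1. From the identity `∑_{a ∈ A} ∑_{i < q} ρ (a g^i a⁻¹) = 1`: `g` fixes a nonzero vector
of every nonzero `A⟨g⟩`-invariant subspace. -/
theorem frob_fixed {S : Type*} [Group S] [Finite S] {E : Type*} [AddCommGroup E]
    [Module (ZMod 2) E] (ρ : Representation (ZMod 2) S E) (A : Subgroup S) (hAN : A.Normal)
    (hAodd : Odd (Nat.card A)) (hfixA : ∀ v : E, (∀ a ∈ A, ρ a v = v) → v = 0)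
    (g : S) (q : ℕ) (hq : q.Prime) (hgq : g ^ q = 1)
    (hcent : ∀ i : ℕ, 0 < i → i < q → ∀ a ∈ A, g ^ i * a = a * g ^ i → a = 1)
    (W : Submodule (ZMod 2) E) (hWA : ∀ a ∈ A, ∀ w ∈ W, ρ a w ∈ W) (hWg : ∀ w ∈ W, ρ g w ∈ W)
    (hW : W ≠ ⊥) :
    ∃ w ∈ W, w ≠ 0 ∧ ρ g w = w := by
  classical
  haveI : Fintype A := Fintype.ofFinite A
  -- the sum of `ρ b` over `A` vanishes
  have hT : ∑ b : A, ρ (b : S) = 0 := by
    apply LinearMap.ext
    intro v
    rw [LinearMap.zero_apply]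
    apply hfixA
    intro a ha
    rw [LinearMap.sum_apply, map_sum]
    have h1 : ∀ b : A, ρ a (ρ (b : S) v) = ρ (((⟨a, ha⟩ : A) * b : A) : S) v := by
      intro b
      rw [Subgroup.coe_mul, map_mul]
      rfl
    rw [Finset.sum_congr rfl (fun b _ => h1 b)]
    exact Equiv.sum_comp (Equiv.mulLeft (⟨a, ha⟩ : A)) (fun c : A => ρ (c : S) v)
  have hsum : ∀ i : ℕ, 0 < i → i < q → ∑ a : A, ρ ((a : S) * g ^ i * (a : S)⁻¹) = 0 := by
    intro i hi0 hiq
    have hc := hcent i hi0 hiq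
    obtain ⟨γ, hγ⟩ : ∃ γ : S, γ = g ^ i := ⟨_, rfl⟩
    rw [← hγ] at hc ⊢
    have hmemA : ∀ a : A, (a : S) * γ * (a : S)⁻¹ * γ⁻¹ ∈ A := by
      intro a
      have h1 : γ * (a : S)⁻¹ * γ⁻¹ ∈ A := hAN.conj_mem _ (A.inv_mem a.2) _
      have h2 : (a : S) * γ * (a : S)⁻¹ * γ⁻¹ = (a : S) * (γ * (a : S)⁻¹ * γ⁻¹) := by group
      rw [h2]
      exact A.mul_mem a.2 h1
    obtain ⟨φ, hφ⟩ : ∃ φ : A → A, ∀ a : A, ((φ a : A) : S) = (a : S) * γ * (a : S)⁻¹ * γ⁻¹ :=
      ⟨fun a => ⟨_, hmemA a⟩, fun a => rfl⟩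
    have hφinj : Function.Injective φ := by
      intro a b hab
      have h1 : (a : S) * γ * (a : S)⁻¹ * γ⁻¹ = (b : S) * γ * (b : S)⁻¹ * γ⁻¹ := by
        rw [← hφ a, ← hφ b, hab]
      have h3 : (a : S) * γ * (a : S)⁻¹ = (b : S) * γ * (b : S)⁻¹ := mul_right_cancel h1
      have h2 : γ * ((b : S)⁻¹ * (a : S)) = ((b : S)⁻¹ * (a : S)) * γ := by
        calc γ * ((b : S)⁻¹ * (a : S)) = (b : S)⁻¹ * ((b : S) * γ * (b : S)⁻¹) * (a : S) := by
              group
          _ = (b : S)⁻¹ * ((a : S) * γ * (a : S)⁻¹) * (a : S) := by rw [h3]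
          _ = ((b : S)⁻¹ * (a : S)) * γ := by group
      have h4 := hc _ (A.mul_mem (A.inv_mem b.2) a.2) h2
      apply Subtype.ext
      exact (inv_mul_eq_one.mp h4).symm
    have hφbij : Function.Bijective φ := Finite.injective_iff_bijective.mp hφinj
    have h5 : ∀ a : A, ρ ((a : S) * γ * (a : S)⁻¹) = ρ ((φ a : A) : S) * ρ γ := by
      intro a
      rw [← map_mul, hφ]
      congr 1
      group
    rw [Finset.sum_congr rfl (fun a _ => h5 a), ← Finset.sum_mul,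
      Fintype.sum_bijective φ hφbij (fun a => ρ ((φ a : A) : S)) (fun b => ρ (b : S))
        (fun a => rfl), hT, zero_mul]
  have hsum0 : ∑ a : A, ρ ((a : S) * g ^ 0 * (a : S)⁻¹) = 1 := by
    have h1 : ∀ a : A, ρ ((a : S) * g ^ 0 * (a : S)⁻¹) = 1 := by
      intro a
      rw [pow_zero, mul_one, mul_inv_cancel, map_one]
    rw [Finset.sum_congr rfl (fun a _ => h1 a), Finset.sum_const, Finset.card_univ]
    obtain ⟨k, hk⟩ := hAodd
    rw [← Nat.card_eq_fintype_card, hk, add_nsmul, one_nsmul, mul_comm, mul_nsmul,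
      ZModModule.char_nsmul_eq_zero 2, zero_add]
  obtain ⟨w, hwW, hw0⟩ := (Submodule.ne_bot_iff W).mp hW
  have key : w = ∑ a : A, ρ (a : S)
      (∑ i ∈ Finset.range q, ρ (g ^ i) (ρ ((a : S)⁻¹) w)) := by
    have h1 : ∀ a : A, ρ (a : S) (∑ i ∈ Finset.range q, ρ (g ^ i) (ρ ((a : S)⁻¹) w)) =
        ∑ i ∈ Finset.range q, ρ ((a : S) * g ^ i * (a : S)⁻¹) w := by
      intro a
      rw [map_sum]
      refine Finset.sum_congr rfl (fun i _ => ?_)
      rw [map_mul, map_mul]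
      rfl
    rw [Finset.sum_congr rfl (fun a _ => h1 a), Finset.sum_comm]
    have h2 : ∀ i ∈ Finset.range q, ∑ a : A, ρ ((a : S) * g ^ i * (a : S)⁻¹) w =
        if i = 0 then w else 0 := by
      intro i hi
      rw [← LinearMap.sum_apply]
      by_cases h0 : i = 0
      · subst h0
        rw [hsum0, if_pos rfl]
        rfl
      · rw [hsum i (Nat.pos_of_ne_zero h0) (Finset.mem_range.mp hi), if_neg h0]
        rfl
    rw [Finset.sum_congr rfl h2, Finset.sum_ite_eq' (Finset.range q) 0 (fun _ => w),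
      if_pos (Finset.mem_range.mpr hq.pos)]
  obtain ⟨a, ha⟩ : ∃ a : A, ∑ i ∈ Finset.range q, ρ (g ^ i) (ρ ((a : S)⁻¹) w) ≠ 0 := by
    by_contra hall
    push_neg at hall
    apply hw0
    rw [key]
    apply Finset.sum_eq_zero
    intro a _
    rw [hall a, map_zero]
  have hpowW : ∀ i : ℕ, ∀ u ∈ W, ρ (g ^ i) u ∈ W := by
    intro i
    induction i with
    | zero =>
      intro u hu
      rw [pow_zero, map_one]
      exact hu
    | succ i ih =>
      intro u hu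
      rw [pow_succ', map_mul]
      exact hWg _ (ih u hu)
  obtain ⟨u, hu⟩ : ∃ u : E, u = ρ ((a : S)⁻¹) w := ⟨_, rfl⟩
  rw [← hu] at ha
  have huW : u ∈ W := by
    rw [hu]
    exact hWA _ (A.inv_mem a.2) w hwW
  refine ⟨∑ i ∈ Finset.range q, ρ (g ^ i) u, ?_, ha, ?_⟩
  · exact Submodule.sum_mem W (fun i _ => hpowW i u huW)
  · rw [map_sum]
    have h1 : ∀ i ∈ Finset.range q, ρ g (ρ (g ^ i) u) = ρ (g ^ (i + 1)) u := by
      intro i _
      rw [pow_succ', map_mul]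
      rfl
    rw [Finset.sum_congr rfl h1]
    have h2 := Finset.sum_range_succ' (fun i => ρ (g ^ i) u) q
    have h3 := Finset.sum_range_succ (fun i => ρ (g ^ i) u) q
    rw [h3] at h2
    have h4 : ρ (g ^ q) u = ρ (g ^ 0) u := by rw [hgq, pow_zero]
    rw [h4] at h2
    exact (add_right_cancel h2).symm

end Cfsg.Agent.Helper55.N14
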