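import Cfsg.Agent.Helper63.N14Defs

set_option autoImplicit false

namespace Cfsg.Agent.Helper55.N14

open Cfsg.Agent.Helper63.N14

/-- D2a. Commutators of elements normalizing `K` centralize `A / K` (cyclic of order `p`). -/
theorem cent_quot_comm {S : Type*} [Group S] [Finite S] (p : ℕ) (hp : p.Prime)
    (A : Subgroup S) (hAN : A.Normal) (hAab : ∀ a ∈ A, ∀ b ∈ A, a * b = b * a)
    (K : Subgroup S) (hK : IsHyp A p K)
    (x t : S) (hx : ∀ k ∈ K, x * k * x⁻¹ ∈ K) (ht : ∀ k ∈ K, t * k * t⁻¹ ∈ K) :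
    ∀ a ∈ A, (x * t * x⁻¹ * t⁻¹) * a * (x * t * x⁻¹ * t⁻¹)⁻¹ * a⁻¹ ∈ K := by
  intro a ha
  obtain ⟨hKA, hKcard⟩ := hK
  haveI : Fact p.Prime := ⟨hp⟩
  obtain ⟨K', hK'⟩ : ∃ K' : Subgroup A, K' = K.subgroupOf A := ⟨_, rfl⟩
  have hK'mem : ∀ y : A, y ∈ K' ↔ (y : S) ∈ K := by
    intro y
    rw [hK']
    exact Subgroup.mem_subgroupOf
  haveI hK'n : K'.Normal := by
    refine ⟨fun n hn g => ?_⟩
    have h1 : g * n * g⁻¹ = n := by
      apply Subtype.ext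
      show (g : S) * (n : S) * (g : S)⁻¹ = (n : S)
      rw [hAab g g.2 n n.2]
      group
    rw [h1]
    exact hn
  have hQcard : Nat.card (A ⧸ K') = p := by
    have h1 := Subgroup.card_eq_card_quotient_mul_card_subgroup K'
    have h2 : Nat.card K' = Nat.card K := by
      rw [hK']
      exact Nat.card_congr (Subgroup.subgroupOfEquivOfLe hKA).toEquiv
    rw [h2, ← hKcard] at h1
    have hKpos : 0 < Nat.card K := Nat.card_pos
    have h3 : p * Nat.card K = Nat.card (A ⧸ K') * Nat.card K := by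
      rw [← h1, mul_comm]
    exact (Nat.eq_of_mul_eq_mul_right hKpos h3).symm
  haveI : IsCyclic (A ⧸ K') := isCyclic_of_prime_card hQcard
  have hxc : K' ≤ K'.comap ((MulAut.conjNormal x : MulAut A).toMonoidHom) := by
    intro k hk
    rw [Subgroup.mem_comap, hK'mem]
    show ((MulAut.conjNormal x k : A) : S) ∈ K
    rw [MulAut.conjNormal_apply]
    exact hx _ ((hK'mem k).mp hk)
  have htc : K' ≤ K'.comap ((MulAut.conjNormal t : MulAut A).toMonoidHom) := by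
    intro k hk
    rw [Subgroup.mem_comap, hK'mem]
    show ((MulAut.conjNormal t k : A) : S) ∈ K
    rw [MulAut.conjNormal_apply]
    exact ht _ ((hK'mem k).mp hk)
  obtain ⟨σx, hσx⟩ : ∃ σ : A ⧸ K' →* A ⧸ K', ∀ b : A,
      σ (QuotientGroup.mk b) = QuotientGroup.mk (MulAut.conjNormal x b) :=
    ⟨QuotientGroup.map K' K' _ hxc, fun b => rfl⟩
  obtain ⟨σt, hσt⟩ : ∃ σ : A ⧸ K' →* A ⧸ K', ∀ b : A,
      σ (QuotientGroup.mk b) = QuotientGroup.mk (MulAut.conjNormal t b) :=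
    ⟨QuotientGroup.map K' K' _ htc, fun b => rfl⟩
  obtain ⟨m, hm⟩ := MonoidHom.map_cyclic σx
  obtain ⟨n, hn⟩ := MonoidHom.map_cyclic σt
  have hcomm : ∀ q, σx (σt q) = σt (σx q) := by
    intro q
    rw [hn, hm, hm, hn, ← zpow_mul, ← zpow_mul, mul_comm]
  have hbA : (t * x)⁻¹ * a * (t * x) ∈ A := by
    have h1 := hAN.conj_mem a ha (t * x)⁻¹
    rw [inv_inv] at h1
    exact h1
  have h1 := hcomm (QuotientGroup.mk ⟨_, hbA⟩)
  rw [hσt, hσx, hσx, hσt, QuotientGroup.eq, hK'mem] at h1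
  rw [Subgroup.coe_mul, Subgroup.coe_inv, MulAut.conjNormal_apply, MulAut.conjNormal_apply,
    MulAut.conjNormal_apply, MulAut.conjNormal_apply] at h1
  have e1 : (x * (t * ((t * x)⁻¹ * a * (t * x)) * t⁻¹) * x⁻¹)⁻¹ *
      (t * (x * ((t * x)⁻¹ * a * (t * x)) * x⁻¹) * t⁻¹) =
      ((x * t * x⁻¹ * t⁻¹) * a * (x * t * x⁻¹ * t⁻¹)⁻¹)⁻¹ * a := by group
  rw [e1] at h1
  have hcA : (x * t * x⁻¹ * t⁻¹) * a * (x * t * x⁻¹ * t⁻¹)⁻¹ ∈ A := hAN.conj_mem a ha _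
  have h2 := K.inv_mem h1
  have e2 : (((x * t * x⁻¹ * t⁻¹) * a * (x * t * x⁻¹ * t⁻¹)⁻¹)⁻¹ * a)⁻¹ =
      a⁻¹ * ((x * t * x⁻¹ * t⁻¹) * a * (x * t * x⁻¹ * t⁻¹)⁻¹) := by group
  rw [e2, hAab _ (A.inv_mem ha) _ hcA] at h2
  exact h2

end Cfsg.Agent.Helper55.N14
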