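import Mathlib

/-!
# CALL S5666 (helper71), piece BT: `burnside_tool` (pure group theory; double by helper55)
-/

set_option autoImplicit false

namespace Cfsg.Agent.Helper55.SGBT

open Subgroup

/-- The statement inside a group `H` (which plays the role of `D`). -/
theorem burnside_tool_top {H : Type*} [Group H] [Finite H] (p : ℕ) [Fact p.Prime]
    (Z : Subgroup H) (hZp : ∀ x ∈ Z, x ^ p = 1)
    (hZab : ∀ x ∈ Z, ∀ y ∈ Z, x * y = y * x)
    (hself : ∀ x : H, ∀ z ∈ Z, z ≠ 1 → x * z * x⁻¹ ∈ Z → x ∈ Z)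
    (z₀ : H) (hz₀ : z₀ ∈ Z) (hz₀1 : z₀ ≠ 1)
    (y₁ y₂ : H) (hpow : (y₁⁻¹ * y₂) ^ p = 1)
    (hc1 : ∀ x : H, x * y₁ * x⁻¹ ∉ Z) (hc2 : ∀ x : H, x * y₂ * x⁻¹ ∉ Z) : y₁ = y₂ := by
  have hp : p.Prime := Fact.out
  have hZpg : IsPGroup p Z := by
    intro z
    refine ⟨1, ?_⟩
    rw [pow_one]
    exact Subtype.ext (hZp z z.2)
  obtain ⟨P, hP⟩ := hZpg.exists_le_sylow
  have hPZ : (P : Subgroup H) = Z := by
    by_contra hne
    have : Group.IsNilpotent (P : Subgroup H) := P.isPGroup'.isNilpotent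
    have hnc := Group.normalizerCondition_of_isNilpotent (G := (P : Subgroup H))
    have hlt : Z.subgroupOf P < ⊤ := by
      rw [lt_top_iff_ne_top, Ne, Subgroup.subgroupOf_eq_top]
      intro hPZ'
      exact hne (le_antisymm hPZ' hP)
    have h1 := hnc (Z.subgroupOf P) hlt
    rw [← Subgroup.subgroupOf_normalizer_eq hP] at h1
    have h2 : (normalizer (Z : Set H)).subgroupOf P ≤ Z.subgroupOf P := by
      intro y hy
      rw [Subgroup.mem_subgroupOf] at hy ⊢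
      exact hself y z₀ hz₀ hz₀1 ((mem_normalizer_iff.mp hy z₀).mp hz₀)
    exact absurd h1 (not_lt_of_ge h2)
  have hnorm : normalizer ((P : Subgroup H) : Set H) ≤ centralizer ((P : Subgroup H) : Set H) := by
    intro x hx
    rw [hPZ] at hx
    have hxZ : x ∈ Z := hself x z₀ hz₀ hz₀1 ((mem_normalizer_iff.mp hx z₀).mp hz₀)
    rw [mem_centralizer_iff]
    intro z hz
    have hz' : z ∈ Z := by
      have : z ∈ (P : Subgroup H) := hz
      rwa [hPZ] at this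
    exact hZab z hz' x hxZ
  have hcompl := MonoidHom.ker_transferSylow_isComplement' P hnorm
  have hndvd := MonoidHom.not_dvd_card_ker_transferSylow P hnorm
  set K := (MonoidHom.transferSylow P hnorm).ker with hK
  have hKn : K.Normal := MonoidHom.normal_ker _
  have hdisj : Disjoint K (P : Subgroup H) := hcompl.disjoint
  have hconj : ∀ g : H, g ∉ K → ∃ x : H, x * g * x⁻¹ ∈ Z := by
    intro g hg
    obtain ⟨⟨⟨k, hk⟩, ⟨z, hz⟩⟩, hkz⟩ := hcompl.2 g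
    have hkz' : k * z = g := hkz
    have hzZ : z ∈ Z := by
      have : z ∈ (P : Subgroup H) := hz
      rwa [hPZ] at this
    have hz1 : z ≠ 1 := by
      rintro rfl
      rw [mul_one] at hkz'
      exact hg (hkz' ▸ hk)
    let f : ↥K → ↥K := fun a =>
      ⟨(a : H)⁻¹ * (z * (a : H) * z⁻¹), K.mul_mem (K.inv_mem a.2) (hKn.conj_mem _ a.2 z)⟩
    have hinj : Function.Injective f := by
      intro a b hab
      have h1 : (a : H)⁻¹ * (z * (a : H) * z⁻¹) = (b : H)⁻¹ * (z * (b : H) * z⁻¹) :=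
        congrArg Subtype.val hab
      have h2 : ((b : H) * (a : H)⁻¹) * z * ((b : H) * (a : H)⁻¹)⁻¹ = z := by
        have e1 : ((b : H) * (a : H)⁻¹) * z * ((b : H) * (a : H)⁻¹)⁻¹ =
            (b : H) * ((a : H)⁻¹ * (z * (a : H) * z⁻¹)) * z * (b : H)⁻¹ := by group
        rw [e1, h1]; group
      have h3 : (b : H) * (a : H)⁻¹ ∈ Z := hself _ z hzZ hz1 (by rw [h2]; exact hzZ)
      have h4 : (b : H) * (a : H)⁻¹ ∈ K := K.mul_mem b.2 (K.inv_mem a.2)
      have h5 : (b : H) * (a : H)⁻¹ = 1 := by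
        have h6 : (b : H) * (a : H)⁻¹ ∈ K ⊓ (P : Subgroup H) := ⟨h4, by rw [hPZ]; exact h3⟩
        rw [hdisj.eq_bot] at h6
        exact h6
      apply Subtype.ext
      have : (b : H) = (a : H) := by
        rw [mul_inv_eq_one] at h5
        exact h5
      exact this.symm
    have hsurj : Function.Surjective f := Finite.injective_iff_surjective.mp hinj
    obtain ⟨a, ha⟩ := hsurj ⟨k, hk⟩
    have ha' : (a : H)⁻¹ * (z * (a : H) * z⁻¹) = k := congrArg Subtype.val ha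
    refine ⟨(a : H), ?_⟩
    have e : (a : H) * g * (a : H)⁻¹ = z := by
      rw [← hkz', ← ha']; group
    rw [e]; exact hzZ
  have hy1 : y₁ ∈ K := by
    by_contra h
    obtain ⟨x, hx⟩ := hconj y₁ h
    exact hc1 x hx
  have hy2 : y₂ ∈ K := by
    by_contra h
    obtain ⟨x, hx⟩ := hconj y₂ h
    exact hc2 x hx
  have hw : y₁⁻¹ * y₂ ∈ K := K.mul_mem (K.inv_mem hy1) hy2
  have ho1 : orderOf (y₁⁻¹ * y₂) ∣ p := orderOf_dvd_of_pow_eq_one hpow
  have ho2 : orderOf (y₁⁻¹ * y₂) ∣ Nat.card K := Subgroup.orderOf_dvd_natCard K hw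
  have ho : orderOf (y₁⁻¹ * y₂) = 1 := by
    rcases (Nat.dvd_prime hp).mp ho1 with h | h
    · exact h
    · exact absurd (h ▸ ho2) hndvd
  have h1 : y₁⁻¹ * y₂ = 1 := orderOf_eq_one_iff.mp ho
  exact (inv_mul_eq_one.mp h1)

/-! ## Piece BT -/
theorem burnside_tool {G : Type*} [Group G] [Finite G] (p : ℕ) [Fact p.Prime]
    (D Z : Subgroup G) (hZD : Z ≤ D) (hZp : ∀ x ∈ Z, x ^ p = 1)
    (hZab : ∀ x ∈ Z, ∀ y ∈ Z, x * y = y * x)
    (hself : ∀ x ∈ D, ∀ z ∈ Z, z ≠ 1 → x * z * x⁻¹ ∈ Z → x ∈ Z)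
    (z₀ : G) (hz₀ : z₀ ∈ Z) (hz₀1 : z₀ ≠ 1)
    (y₁ y₂ : G) (h1 : y₁ ∈ D) (h2 : y₂ ∈ D) (hpow : (y₁⁻¹ * y₂) ^ p = 1)
    (hc1 : ∀ x ∈ D, x * y₁ * x⁻¹ ∉ Z) (hc2 : ∀ x ∈ D, x * y₂ * x⁻¹ ∉ Z) : y₁ = y₂ := by
  have key := burnside_tool_top (H := ↥D) p (Z.subgroupOf D)
    (fun x hx => Subtype.ext (hZp x (Subgroup.mem_subgroupOf.mp hx)))
    (fun x hx y hy => Subtype.ext
      (hZab x (Subgroup.mem_subgroupOf.mp hx) y (Subgroup.mem_subgroupOf.mp hy)))
    (fun x z hz hz1 hxz => Subgroup.mem_subgroupOf.mpr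
      (hself x x.2 z (Subgroup.mem_subgroupOf.mp hz) (fun h => hz1 (Subtype.ext h))
        (Subgroup.mem_subgroupOf.mp hxz)))
    ⟨z₀, hZD hz₀⟩ (Subgroup.mem_subgroupOf.mpr hz₀) (fun h => hz₀1 (congrArg Subtype.val h))
    ⟨y₁, h1⟩ ⟨y₂, h2⟩ (Subtype.ext hpow)
    (fun x hx => hc1 x x.2 (Subgroup.mem_subgroupOf.mp hx))
    (fun x hx => hc2 x x.2 (Subgroup.mem_subgroupOf.mp hx))
  exact congrArg Subtype.val key

end Cfsg.Agent.Helper55.SGBT
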