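import Mathlib
import Cfsg.Agent.Helper9.OrdTools

/-! PIECE P4n of CALL S0435 (helper52): in a group of order 7920 whose Sylow 3-subgroups are
self-centralising (`|C(S)| = 9`), the centraliser of an involution has order prime to 9. -/

set_option autoImplicit false

namespace Cfsg.Agent.Helper55

variable {G : Type*} [Group G] [Finite G]

theorem u7920_no9 (hG : Nat.card G = 7920)
    (hCR : ∀ S : Sylow 3 G, Nat.card ↥(Subgroup.centralizer ((S : Subgroup G) : Set G)) = 9)
    (x : G) (hx : orderOf x = 2) :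
    ¬ 9 ∣ Nat.card ↥(Subgroup.centralizer ({x} : Set G)) := by
  haveI : Fact (Nat.Prime 3) := ⟨by norm_num⟩
  intro h9
  obtain ⟨K, hK⟩ := Sylow.exists_subgroup_card_pow_prime 3
    (show 3 ^ 2 ∣ Nat.card ↥(Subgroup.centralizer ({x} : Set G)) by norm_num; exact h9)
  obtain ⟨H, hH⟩ : ∃ H : Subgroup G, H = K.map (Subgroup.centralizer ({x} : Set G)).subtype :=
    ⟨_, rfl⟩
  have hHcard : Nat.card H = 9 := by
    rw [hH, ← Nat.card_congr (K.equivMapOfInjective _ (Subgroup.subtype_injective _)).toEquiv, hK]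
    norm_num
  have hHle : H ≤ Subgroup.centralizer ({x} : Set G) := by
    rw [hH]
    rintro _ ⟨k, -, rfl⟩
    exact k.2
  have hHp : IsPGroup 3 H := IsPGroup.of_card (n := 2) (by rw [hHcard]; norm_num)
  obtain ⟨S, hS⟩ := hHp.exists_le_sylow
  have hScard : Nat.card (S : Subgroup G) = 9 := by
    have h1 := Helper9.OrdTools.sylow_card (p := 3) 2 880 (by rw [hG]; norm_num) (by norm_num) S
    simpa using h1
  have hHS : H = (S : Subgroup G) :=
    Subgroup.eq_of_le_of_card_ge hS (by rw [hHcard, hScard])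
  have hxC : x ∈ Subgroup.centralizer ((S : Subgroup G) : Set G) := by
    rw [Subgroup.mem_centralizer_iff]
    intro s hs
    have h1 : s ∈ Subgroup.centralizer ({x} : Set G) := hHle (by rw [hHS]; exact hs)
    exact Subgroup.mem_centralizer_singleton_iff.mp h1
  have h2 := Subgroup.orderOf_dvd_natCard _ hxC
  rw [hx, hCR S] at h2
  omega

end Cfsg.Agent.Helper55
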